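import Mathlib

/-!
The arithmetic of the order eight situation: the possible orders are 168, 360 and 2520.
-/

set_option autoImplicit false
set_option linter.style.nameCheck false
set_option maxHeartbeats 1000000

namespace CfsgLib.StructC.CentFour

/-- The odd part of the factorial of fifteen. -/
abbrev oddFact : ℕ := 638512875

/-- One candidate: the order does not divide the factorial of the largest possible index, unless it
is the exceptional one. -/
def candOk (a b m v : ℕ) (plus : Bool) : Bool :=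
  let N := if plus then 32 * v * v + m * m + 12 * v * m else 32 * v * v + m * m - 12 * v * m
  oddFact % (a * b * N) != 0 || (Nat.factorial (N / (3 * a * a))) % (8 * a * b * N) != 0 ||
    (a == 3 && b == 3 && m == 3 && plus)

/-- The finite check. -/
def tableOk : Bool :=
  (List.range 351).all fun a => a < 3 || oddFact % a != 0 ||
    (List.range (a + 1)).all fun b => b < 3 || oddFact % (a * b) != 0 ||
      (List.range ((a + b) / 2 + 1)).all fun m => m == 0 || ((a + b) / 2) % m != 0 ||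
        (candOk a b m ((a + b) / 2) true && candOk a b m ((a + b) / 2) false)

theorem tableOk_eq : tableOk = true := by decide +kernel

theorem table_elim {a b m v N : ℕ} {plus : Bool} (ha : a < 351) (hb3 : 3 ≤ b) (hba : b ≤ a)
    (hv : 2 * v = a + b) (hm0 : m ≠ 0) (hmv : m ∣ v)
    (hN : N = if plus then 32 * v * v + m * m + 12 * v * m else 32 * v * v + m * m - 12 * v * m)
    (hO : a * b * N ∣ oddFact) (hk : 8 * a * b * N ∣ Nat.factorial (N / (3 * a * a))) :
    a = 3 ∧ b = 3 ∧ m = 3 ∧ plus = true := by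
  have h0 := tableOk_eq
  simp only [tableOk, List.all_eq_true, List.mem_range, Bool.or_eq_true, decide_eq_true_eq,
    bne_iff_ne, beq_iff_eq, Bool.and_eq_true] at h0
  have ha' : oddFact % a = 0 :=
    Nat.dvd_iff_mod_eq_zero.1 ((Dvd.intro b rfl).trans ((Dvd.intro N rfl).trans hO))
  have hb' : oddFact % (a * b) = 0 := Nat.dvd_iff_mod_eq_zero.1 ((Dvd.intro N rfl).trans hO)
  have hv' : (a + b) / 2 = v := by omega
  have hmle : m ≤ v := Nat.le_of_dvd (by omega) hmv
  have h1 := (h0 a ha).resolve_left (by omega)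
  have h2 := (h1 b (by omega)).resolve_left (by omega)
  have h3 := (h2 m (by rw [hv']; omega)).resolve_left (by
    rw [hv']
    have := Nat.dvd_iff_mod_eq_zero.1 hmv
    omega)
  rw [hv'] at h3
  have h4 : candOk a b m v plus = true := by
    cases plus
    · exact h3.2
    · exact h3.1
  simp only [candOk, ← hN, Bool.or_eq_true, bne_iff_ne, Bool.and_eq_true, beq_iff_eq] at h4
  rcases h4 with (h5 | h5) | h5
  · exact absurd (Nat.dvd_iff_mod_eq_zero.1 hO) h5
  · exact absurd (Nat.dvd_iff_mod_eq_zero.1 hk) h5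
  · exact ⟨h5.1.1.1, h5.1.1.2, h5.1.2, h5.2⟩

/-- The case of a trivial second part. -/
theorem square_cases {a t m q : ℤ} (ha : 3 ≤ a) (hv : 2 * (t * m) = a + 1)
    (hq : ((4 * t + 1) * m) ^ 2 - 16 * a = q ^ 2) :
    (a = 3 ∧ t = -2 ∧ m = -1) ∨ (a = 5 ∧ t = -1 ∧ m = -3) ∨ (a = 9 ∧ t = -1 ∧ m = -5) := by
  have hm0 : m ≠ 0 := by rintro rfl; simp at hv; omega
  have hmle : |m| ≤ t * m := Int.le_of_dvd (by omega) ((abs_dvd _ _).2 (dvd_mul_left m t))
  have hml := abs_le.1 (le_refl |m|)
  set w := (4 * t + 1) * m with hw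
  have hwv : w = 2 * a + 2 + m := by rw [hw]; linear_combination 2 * hv
  set p := |q| with hp
  have hp0 : 0 ≤ p := abs_nonneg q
  have hp2 : p ^ 2 = q ^ 2 := sq_abs q
  rw [← hp2] at hq
  have hpar : Even (w - p) := by
    have h1 : Even ((w - p) * (w + p)) :=
      ⟨8 * a, by linear_combination hq⟩
    rcases Int.even_mul.1 h1 with h | h
    · exact h
    · rw [Int.even_sub]
      exact Int.even_add.1 h
  obtain ⟨i, hi⟩ := hpar
  have hi' : i * (w - i) = 4 * a := by
    have : w = p + (i + i) := by omega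
    rw [this] at hq ⊢
    have : (4 : ℤ) * (i * (p + (i + i) - i)) = 4 * (4 * a) := by linear_combination hq
    linarith
  have hwpos : 3 * a + 3 ≤ 2 * w := by omega
  have hi0 : 1 ≤ i := by
    rcases le_or_gt i 0 with h | h
    · exfalso
      have : i * (w - i) ≤ 0 := mul_nonpos_iff.2 (Or.inr ⟨h, by omega⟩)
      omega
    · omega
  have hi5 : i ≤ 5 := by
    by_contra h
    have h6 : 6 * (w - i) ≤ i * (w - i) := mul_le_mul_of_nonneg_right (by omega) (by omega)
    omega
  have hdvd : ∀ c : ℤ, m ∣ c * (t * m) := fun c => (dvd_mul_left m t).mul_left c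
  interval_cases i
  · exfalso
    have : w = 4 * a + 1 := by linarith
    omega
  · exfalso; omega
  · have h3 : 3 * w = 4 * a + 9 := by linarith
    have hm5 : m ∣ 5 := by
      have h5 : (5 : ℤ) = 4 * (t * m) + 3 * m := by
        have : 3 * m = 3 - 2 * a := by omega
        linarith
      rw [h5]
      exact dvd_add (hdvd 4) (dvd_mul_left m 3)
    have hma : |m| ∣ 5 := (abs_dvd _ _).2 hm5
    have hm5' : |m| ≤ 5 := Int.le_of_dvd (by norm_num) hma
    obtain ⟨hlo, hhi⟩ := abs_le.1 hm5'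
    have hm' : m = -1 ∨ m = -5 := by
      have hneg : m < 0 := by omega
      interval_cases m <;> simp_all
    rcases hm' with rfl | rfl
    · exact Or.inl ⟨by omega, by omega, rfl⟩
    · exact Or.inr (Or.inr ⟨by omega, by omega, rfl⟩)
  · have h4 : w = a + 4 := by linarith
    have hm3 : m ∣ 3 := by
      have h3 : (3 : ℤ) = 2 * (t * m) + m := by
        have : m = 2 - a := by omega
        linarith
      rw [h3]
      exact dvd_add (hdvd 2) dvd_rfl
    have hm3' : |m| ≤ 3 := Int.le_of_dvd (by norm_num) ((abs_dvd _ _).2 hm3)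
    obtain ⟨hlo, hhi⟩ := abs_le.1 hm3'
    have hm' : m = -1 ∨ m = -3 := by
      have hneg : m < 0 := by omega
      interval_cases m <;> simp_all
    rcases hm' with rfl | rfl
    · exact Or.inl ⟨by omega, by omega, rfl⟩
    · exact Or.inr (Or.inl ⟨by omega, by omega, rfl⟩)
  · have h5 : 5 * w = 4 * a + 25 := by linarith
    have ha5 : a = 5 := by omega
    obtain rfl : m = -3 := by omega
    exact Or.inr (Or.inl ⟨ha5, by omega, rfl⟩)

/-- **The possible orders.** -/
theorem orders {a b N n : ℕ} {X Y V : ℤ} (hao : Odd a) (hbo : Odd b) (hba : b ≤ a) (hNo : Odd N)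
    (hn : n = 8 * (a * b) * N)
    (hX8 : X % 8 = 1) (hYV : Y + V = -(1 + X)) (hX1 : X ≠ 1)
    (hord : (n : ℤ) * (X - 1) ^ 2 = 64 * X * (X + 1) * ((a : ℤ) * b * ((a : ℤ) + b) ^ 2))
    (hcm : 256 * ((a : ℤ) * b) ^ 2 * (X * Y * V) = (n : ℤ) * (X * Y * V + Y * V + X * V + X * Y))
    (hdeg : 1 < a → 8 ≤ |X| ∧ 8 ≤ |Y| ∧ 8 ≤ |V|)
    (hidx : 1 < b → ∃ k : ℕ, 24 * k * b * a ^ 3 ≤ n ∧ n ∣ k.factorial) :
    n = 360 ∨ n = 168 ∨ n = 2520 := by
  obtain ⟨t, rfl⟩ : ∃ t, X = 8 * t + 1 := ⟨X / 8, by omega⟩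
  have ht0 : t ≠ 0 := by rintro rfl; simp at hX1
  obtain ⟨v, hv⟩ : ∃ v : ℕ, 2 * v = a + b := by
    obtain ⟨i, rfl⟩ := hao
    obtain ⟨j, rfl⟩ := hbo
    exact ⟨i + j + 1, by ring⟩
  have hvz : 2 * (v : ℤ) = a + b := by exact_mod_cast hv
  have hab0 : (a : ℤ) * b ≠ 0 := by
    have h1 := hao.pos
    have h2 := hbo.pos
    positivity
  have hNt : (N : ℤ) * t ^ 2 = (8 * t + 1) * (4 * t + 1) * (v : ℤ) ^ 2 := by
    refine mul_left_cancel₀ (show (512 : ℤ) * ((a : ℤ) * b) ≠ 0 from mul_ne_zero (by norm_num) hab0) ?_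
    rw [← hvz, hn] at hord
    push_cast at hord
    linear_combination hord
  obtain ⟨m, hm⟩ : t ∣ (v : ℤ) := by
    have h1 : IsCoprime t (8 * t + 1) := ⟨-8, 1, by ring⟩
    have h2 : IsCoprime t (4 * t + 1) := ⟨-4, 1, by ring⟩
    have h3 : t ^ 2 ∣ (v : ℤ) ^ 2 :=
      (h1.mul_right h2).pow_left.dvd_of_dvd_mul_left ⟨N, by linear_combination -hNt⟩
    exact (Int.pow_dvd_pow_iff two_ne_zero).1 h3
  have hN : (N : ℤ) = (8 * t + 1) * (4 * t + 1) * m ^ 2 := by
    refine mul_right_cancel₀ (pow_ne_zero 2 ht0) ?_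
    rw [hNt, hm]; ring
  have hvpos : 0 < (v : ℤ) := by have := hao.pos; omega
  have hm0 : m ≠ 0 := by rintro rfl; simp at hm; omega
  have hu0 : (4 * t + 1 : ℤ) ≠ 0 := by omega
  have hA : Y * V * (((4 * t + 1) * m) ^ 2 - 16 * ((a : ℤ) * b)) =
      ((4 * t + 1) * m) ^ 2 * (8 * t + 1) := by
    refine mul_left_cancel₀ (show (16 : ℤ) * ((a : ℤ) * b) * (8 * t + 1) ≠ 0 from
      mul_ne_zero (mul_ne_zero (by norm_num) hab0) (by omega)) ?_
    have h1 : (8 * t + 1) * Y * V + Y * V + (8 * t + 1) * V + (8 * t + 1) * Y =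
        2 * (4 * t + 1) * (Y * V - (8 * t + 1)) := by linear_combination (8 * t + 1) * hYV
    rw [h1, hn] at hcm
    push_cast at hcm
    rw [hN] at hcm
    linear_combination -hcm
  have hsq : (Y - V) ^ 2 * (((4 * t + 1) * m) ^ 2 - 16 * ((a : ℤ) * b)) =
      (4 * (4 * t + 1) * ((a : ℤ) - b)) ^ 2 := by
    have h1 : (Y - V) ^ 2 = 4 * (4 * t + 1) ^ 2 - 4 * (Y * V) := by
      linear_combination (Y + V - 2 - 8 * t) * hYV
    have h2 : 2 * (t * m) = (a : ℤ) + b := by rw [← hm]; exact hvz
    rw [h1]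
    linear_combination -4 * hA + 16 * (4 * t + 1) ^ 2 * (2 * (t * m) + (a + b)) * h2
  rcases Nat.lt_or_ge 1 b with hb | hb
  · -- both parts nontrivial
    exfalso
    obtain ⟨k, hk, hkd⟩ := hidx hb
    have hb3 : 3 ≤ b := by obtain ⟨j, rfl⟩ := hbo; omega
    have hmle : |m| ≤ (v : ℤ) := Int.le_of_dvd hvpos ((abs_dvd _ _).2 ⟨t, by rw [hm]; ring⟩)
    obtain ⟨hm1, hm2⟩ := abs_le.1 hmle
    have hNv : (N : ℤ) = 32 * (v : ℤ) ^ 2 + 12 * (v : ℤ) * m + m ^ 2 := by rw [hN, hm]; ring
    have hNle : (N : ℤ) ≤ 45 * (v : ℤ) ^ 2 := by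
      have h1 := mul_nonneg (sub_nonneg.2 hm2) (show (0 : ℤ) ≤ 13 * v + m by omega)
      have h2 : ((v : ℤ) - m) * (13 * v + m) = 13 * (v : ℤ) ^ 2 - 12 * v * m - m ^ 2 := by ring
      rw [hNv]
      linarith only [h1, h2]
    have hNge : 21 * (v : ℤ) ^ 2 ≤ N := by
      have h1 := mul_nonneg (show (0 : ℤ) ≤ v + m by omega) (show (0 : ℤ) ≤ 11 * v + m by omega)
      have h2 : ((v : ℤ) + m) * (11 * v + m) = 11 * (v : ℤ) ^ 2 + 12 * v * m + m ^ 2 := by ring
      rw [hNv]
      linarith only [h1, h2]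
    have hk3 : k * (3 * a * a) ≤ N := by
      rw [hn] at hk
      have h0 : 8 * (a * b) * (k * (3 * a * a)) ≤ 8 * (a * b) * N := by
        calc 8 * (a * b) * (k * (3 * a * a)) = 24 * k * b * a ^ 3 := by ring
          _ ≤ _ := hk
      exact Nat.le_of_mul_le_mul_left h0 (by have := hao.pos; positivity)
    have hkN : k ≤ N / (3 * a * a) := (Nat.le_div_iff_mul_le (by have := hao.pos; positivity)).2 hk3
    have hk15 : N / (3 * a * a) ≤ 15 := by
      refine Nat.div_le_of_le_mul ?_
      have h1 : (v : ℤ) ^ 2 ≤ (a : ℤ) ^ 2 := pow_le_pow_left₀ hvpos.le (by omega) 2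
      have h2 : (N : ℤ) ≤ ((3 * a * a * 15 : ℕ) : ℤ) := by
        push_cast
        rw [pow_two, pow_two] at h1
        rw [pow_two] at hNle
        linarith only [hNle, h1]
      exact_mod_cast h2
    have hnk : 8 * a * b * N ∣ Nat.factorial (N / (3 * a * a)) := by
      rw [mul_assoc 8 a b, ← hn]
      exact hkd.trans (Nat.factorial_dvd_factorial hkN)
    have hO : a * b * N ∣ oddFact := by
      have h15 : a * b * N ∣ 2 ^ 11 * oddFact := by
        rw [show 2 ^ 11 * oddFact = Nat.factorial 15 by decide]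
        exact (Dvd.intro_left 8 (by ring)).trans (hnk.trans (Nat.factorial_dvd_factorial hk15))
      refine Nat.Coprime.dvd_of_dvd_mul_left ?_ h15
      exact Nat.Coprime.pow_right _ (Nat.coprime_two_right.2 ((hao.mul hbo).mul hNo))
    have ha351 : a < 351 := by
      by_contra hbig
      push Not at hbig
      have h1 := Nat.le_of_dvd (by norm_num) hO
      have h2 : 351 + 3 ≤ 2 * v := by omega
      have h3 : 21 * (177 * 177) ≤ N := by
        have : (177 : ℤ) ^ 2 ≤ (v : ℤ) ^ 2 := pow_le_pow_left₀ (by norm_num) (by omega) 2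
        have h4 : ((21 * (177 * 177) : ℕ) : ℤ) ≤ N := by push_cast; linarith
        exact_mod_cast h4
      have h5 : 351 * 3 * (21 * (177 * 177)) ≤ a * b * N :=
        Nat.mul_le_mul (Nat.mul_le_mul hbig hb3) h3
      have h6 := h5.trans h1
      norm_num [oddFact] at h6
    have hmn : m.natAbs ∣ v := by
      have := Int.natAbs_dvd_natAbs.2 (⟨t, by rw [hm]; ring⟩ : m ∣ (v : ℤ))
      simpa using this
    rcases le_or_gt 0 m with hms | hms
    · obtain ⟨m', rfl⟩ := Int.eq_ofNat_of_zero_le hms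
      obtain ⟨rfl, rfl, rfl, -⟩ := table_elim (plus := true) ha351 hb3 hba hv
        (by simpa using hm0) (by simpa using hmn) (by
          simp only [if_true]
          have : (N : ℤ) = ((32 * v * v + m' * m' + 12 * v * m' : ℕ) : ℤ) := by
            rw [hNv]; push_cast; ring
          exact_mod_cast this) hO hnk
      -- the exceptional candidate
      obtain rfl : v = 3 := by omega
      obtain rfl : t = 1 := by push_cast at hm; omega
      have h0 : (Y - V) ^ 2 = 0 := by
        push_cast at hsq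
        linarith
      have hYV' : Y = V := sub_eq_zero.1 (pow_eq_zero_iff two_ne_zero |>.1 h0)
      obtain ⟨-, hY, -⟩ := hdeg (by norm_num)
      have hYv : Y = -5 := by omega
      rw [hYv] at hY
      norm_num at hY
    · obtain ⟨m', hm'⟩ : ∃ m' : ℕ, m = -(m' : ℤ) := ⟨m.natAbs, by omega⟩
      subst hm'
      obtain ⟨-, -, -, h⟩ := table_elim (plus := false) (m := m') (N := N) ha351 hb3 hba hv
        (by omega) (by simpa using hmn) (by
          simp only [Bool.false_eq_true, if_false]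
          have h1 : (N : ℤ) + ((12 * v * m' : ℕ) : ℤ) = ((32 * v * v + m' * m' : ℕ) : ℤ) := by
            rw [hNv]; push_cast; ring
          have h2 : N + 12 * v * m' = 32 * v * v + m' * m' := by exact_mod_cast h1
          omega) hO hnk
      simp at h
  · obtain rfl : b = 1 := by have := hbo.pos; omega
    rcases Nat.lt_or_ge 1 a with ha | ha
    · have ha3 : (3 : ℤ) ≤ a := by obtain ⟨i, rfl⟩ := hao; push_cast; omega
      have hne : Y - V ≠ 0 := by
        intro e
        rw [e, zero_pow two_ne_zero, zero_mul] at hsq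
        exact pow_ne_zero 2 (mul_ne_zero (mul_ne_zero (by norm_num) hu0)
          (show (a : ℤ) - ((1 : ℕ) : ℤ) ≠ 0 by push_cast; omega)) hsq.symm
      have hd : (Y - V) ∣ 4 * (4 * t + 1) * ((a : ℤ) - 1) := by
        refine (Int.pow_dvd_pow_iff two_ne_zero).1 ⟨((4 * t + 1) * m) ^ 2 - 16 * (a : ℤ), ?_⟩
        simpa using hsq.symm
      obtain ⟨q, hq⟩ := hd
      have hq2 : ((4 * t + 1) * m) ^ 2 - 16 * (a : ℤ) = q ^ 2 := by
        refine mul_left_cancel₀ (pow_ne_zero 2 hne) ?_
        rw [← mul_pow, ← hq]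
        simpa using hsq
      have h2 : 2 * (t * m) = (a : ℤ) + 1 := by rw [← hm]; exact_mod_cast hv
      rcases square_cases ha3 h2 hq2 with ⟨h3, rfl, rfl⟩ | ⟨h3, rfl, rfl⟩ | ⟨h3, rfl, rfl⟩
      · right; right
        have : (n : ℤ) = 2520 := by
          rw [hn]; push_cast; rw [hN, h3]; norm_num
        exact_mod_cast this
      · exact absurd (hdeg ha).1 (by norm_num)
      · exact absurd (hdeg ha).1 (by norm_num)
    · obtain rfl : a = 1 := by have := hao.pos; omega
      obtain rfl : v = 1 := by omega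
      push_cast at hm
      rcases Int.eq_one_or_neg_one_of_mul_eq_one hm.symm with rfl | rfl
      · left
        obtain rfl : m = 1 := by omega
        have : (n : ℤ) = 360 := by rw [hn]; push_cast; rw [hN]; norm_num
        exact_mod_cast this
      · right; left
        obtain rfl : m = -1 := by omega
        have : (n : ℤ) = 168 := by rw [hn]; push_cast; rw [hN]; norm_num
        exact_mod_cast this

end CfsgLib.StructC.CentFour
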