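import Cfsg.Agent.Lib.StructC.CentFour.Local
import Cfsg.Agent.Lib.BlockA.DihedralOrder
import Cfsg.Agent.Lib.BlockB.PModular
import Cfsg.Agent.Lib.BlockB.ClassMul
import Cfsg.Agent.Lib.Char.Column
import Cfsg.Agent.Lib.Char.Invariants
import Cfsg.Agent.Lib.Char.Linear
import Cfsg.Agent.Lib.InvChar.BSWChars

/-!
The principal block in the order eight situation: the degree congruences, the order formula and
the class multiplication equation at the self-centralizing element.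
-/

set_option autoImplicit false
set_option linter.unusedSectionVars false

namespace CfsgLib.StructC.CentFour

open Subgroup CfsgLib.Invol CfsgLib.BlockA.DihedralBlock Cfsg CfsgLib.Block CfsgLib.Char
open scoped ComplexConjugate Pointwise

universe u

variable {G : Type u} [Group G] [Finite G] {S : Sylow 2 G} {D : DihData (S : Subgroup G)}

local notation "Z" => dz S D
local notation "W" => rot S D
local notation "T" => refl S D

namespace Setup

variable (h : Setup S D)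
include h

variable {M : Ideal AlgInt} [M.IsPrime] (hM : IsPModular 2 M)
include hM

/-- A block character is constant on the 2-section of the central involution. -/
theorem section_const {χ : IrrCharacter G} (hχ : χ ∈ principalBlock M G) {v : G}
    (hv : v ∈ oddCent Z) : (χ : G → ℂ) (Z * v) = (χ : G → ℂ) Z := by
  have hh : ¬ 2 * D.h ∣ D.h := by rw [h.h_two]; decide
  have := (principal_section hM (orderOf_rot_pow_two S D D.h) (complement_rot_all S D hh)).1 χ hχ v
  rw [rot_pow_h] at this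
  exact this (h.mem_odd.1 hv).1.symm (h.mem_odd.1 hv).2

/-- The fixed space of a subgroup of the fixed part has dimension congruent modulo eight to a
fixed number, and is proper unless the subgroup is trivial. -/
theorem fixed_congr [IsSimpleGroup G] {χ : IrrCharacter G} (hχ : χ ∈ principalBlock M G)
    (hne : (χ : G → ℂ) ≠ fun _ => 1) {c e : ℤ} (hc : (χ : G → ℂ) Z = c)
    (he : (χ : G → ℂ) W = e) (A : Subgroup G) (hA : A ≤ fixPart S D) :
    ∃ (f : ℕ) (k : ℤ), (f : ℤ) + 5 * c + 2 * e = 8 * k ∧ f ≤ charDegree (χ : G → ℂ) ∧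
      (A = ⊥ → f = charDegree (χ : G → ℂ)) ∧ (A ≠ ⊥ → f < charDegree (χ : G → ℂ)) := by
  classical
  have := Fintype.ofFinite G
  obtain ⟨n, ρ, hρ, hρχ⟩ := χ.2
  have hcl := irr_isClassFunction χ.2
  set inv : Submodule ℂ (Fin n → ℂ) :=
    Representation.invariants (ρ.comp A.subtype : Representation ℂ A (Fin n → ℂ)) with hinv
  set f := Module.finrank ℂ inv with hf
  have hdeg : charDegree (χ : G → ℂ) = n := by
    have h1 := CfsgLib.BlockB.irr_degree_cast χ
    rw [← hρχ, Representation.char_one, Module.finrank_fin_fun] at h1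
    rw [← hρχ]
    exact_mod_cast h1
  have hfle : f ≤ n := (Submodule.finrank_le inv).trans_eq (Module.finrank_fin_fun ℂ)
  have hsumA : ∑ v : A, (χ : G → ℂ) v = (Nat.card A : ℂ) * f := by
    have h1 := classInner_res_one ρ A
    rw [classInner_def] at h1
    simp only [map_one, mul_one] at h1
    rw [← hf] at h1
    rw [← hρχ, ← h1, ← mul_assoc, mul_inv_cancel₀ natCard_ne_zero, one_mul]
  have hAO : ∀ {v : G}, v ∈ A → v ∈ oddCent Z ∧ Commute v T := fun hv => h.mem_fix.1 (hA hv)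
  -- the values on the cosets
  have hinvol : ∀ x : G, orderOf x = 2 → (χ : G → ℂ) x = c := fun x hx => by
    rw [isClassFunction_isConj hcl (h.hone x Z hx dz_invol), hc]
  have hTval : ∀ v ∈ A, (χ : G → ℂ) (v * T) = c := by
    intro v hv
    obtain ⟨g, hg⟩ := isConj_iff.1 (h.hone T Z refl_invol dz_invol)
    have h1 : Commute (g * v * g⁻¹) Z := by
      rw [← hg]; exact (hAO hv).2.map (MulAut.conj g).toMonoidHom
    have h2 : g * v * g⁻¹ ∈ oddCent Z := h.mem_odd.2 ⟨h1, by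
      rw [CfsgLib.Invol.orderOf_conj_eq]; exact (h.mem_odd.1 (hAO hv).1).2⟩
    rw [← hcl (v * T) g, show g * (v * T) * g⁻¹ = (g * v * g⁻¹) * (g * T * g⁻¹) by group, hg,
      h1.eq, h.section_const hM hχ h2, hc]
  have hrefl : ∀ v ∈ A, ∀ x : G, Commute x Z → x * v * x⁻¹ = v⁻¹ → orderOf x = 2 →
      x ∉ oddCent Z → (χ : G → ℂ) (v * x) = c := by
    intro v hv x _ hinvv hx hxO
    refine hinvol _ (invol_of_mul_self ?_ ?_)
    · calc v * x * (v * x) = v * (x * v * x⁻¹) * (x * x) := by group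
        _ = 1 := by rw [hinvv, invol_mul_self hx, mul_one, mul_inv_cancel]
    · intro e
      exact hxO (eq_inv_of_mul_eq_one_right e ▸ inv_mem (hAO hv).1)
  have hrot : ∀ v ∈ A, ∀ x : G, x * v * x⁻¹ = v⁻¹ → IsConj W x → (χ : G → ℂ) (v * x) = e := by
    intro v hv x hinvv hx
    obtain ⟨hvO, -⟩ := hAO hv
    obtain ⟨m, hm⟩ := Nat.not_even_iff_odd.1 fun ev => (h.mem_odd.1 hvO).2 (even_iff_two_dvd.1 ev)
    set r := v ^ (m + 1)
    have hrr : r * r = v := by
      rw [← pow_add, show m + 1 + (m + 1) = (2 * m + 1) + 1 by ring, pow_succ, ← hm,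
        pow_orderOf_eq_one, one_mul]
    have hxr : x * r⁻¹ = r * x := by
      have h1 : x * r * x⁻¹ = r⁻¹ := by rw [← conj_pow, hinvv, inv_pow]
      rw [← mul_inv_eq_iff_eq_mul]
      calc x * r⁻¹ * x⁻¹ = (x * r * x⁻¹)⁻¹ := by group
        _ = r := by rw [h1, inv_inv]
    rw [show v * x = r * x * r⁻¹ by rw [mul_assoc, hxr, ← mul_assoc, hrr], hcl,
      ← isClassFunction_isConj hcl hx, he]
  have hWinv : ∀ v ∈ A, W * v * W⁻¹ = v⁻¹ := fun v hv => h.rot_inverts.1 v (hAO hv).1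
  have hTfix : ∀ v ∈ A, T * v * T⁻¹ = v := fun v hv => by
    rw [← (hAO hv).2.eq, mul_inv_cancel_right]
  have hZfix : ∀ v ∈ A, Z * v * Z⁻¹ = v := fun v hv => by
    rw [← (h.mem_odd.1 (hAO hv).1).1.eq, mul_inv_cancel_right]
  -- the subgroup generated with the Sylow subgroup
  have hgen : ∀ x ∈ (S : Subgroup G), x ∈ normalizer (A : Set G) := by
    have hW : W ∈ normalizer (A : Set G) := mem_normalizer_iff_of_finite fun v hv => by
      rw [hWinv v hv]; exact inv_mem hv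
    have hT : T ∈ normalizer (A : Set G) := mem_normalizer_iff_of_finite fun v hv => by
      rw [hTfix v hv]; exact hv
    have hZ : Z ∈ normalizer (A : Set G) := mem_normalizer_iff_of_finite fun v hv => by
      rw [hZfix v hv]; exact hv
    intro x hx
    rcases h.sylow_cases hx with e' | e' | e' | e' | e' | e' | e' | e' <;> subst e'
    exacts [one_mem _, hW, hZ, mul_mem hW hZ, hT, mul_mem hW hT, mul_mem hZ hT,
      mul_mem (mul_mem hW hZ) hT]
  let f' : A × (S : Subgroup G) → ↥(A ⊔ (S : Subgroup G)) := fun p =>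
    ⟨(p.1 : G) * p.2, mul_mem_sup p.1.2 p.2.2⟩
  have hbij : Function.Bijective f' := by
    constructor
    · rintro ⟨⟨a, ha⟩, ⟨b, hb⟩⟩ ⟨⟨a', ha'⟩, ⟨b', hb'⟩⟩ he'
      have he'' : a * b = a' * b' := congrArg Subtype.val he'
      have e' : a'⁻¹ * a = b' * b⁻¹ := by
        rw [eq_mul_inv_iff_mul_eq, mul_assoc, he'', inv_mul_cancel_left]
      have h1 := h.eq_one_of_mem_sylow (mul_mem (inv_mem (hAO ha').1) (hAO ha).1)
        (e' ▸ mul_mem hb' (inv_mem hb))
      obtain rfl : a' = a := inv_mul_eq_one.1 h1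
      obtain rfl : b = b' := mul_left_cancel he''
      rfl
    · rintro ⟨x, hx⟩
      have hx' : x ∈ ((A : Set G) * ((S : Subgroup G) : Set G)) := by
        rw [← coe_mul_of_right_le_normalizer_left A (S : Subgroup G) hgen]; exact hx
      obtain ⟨a, ha, b, hb, rfl⟩ := hx'
      exact ⟨⟨⟨a, ha⟩, ⟨b, hb⟩⟩, rfl⟩
  obtain ⟨k, hk⟩ := CfsgLib.InvChar.BSW.sum_subgroup_eq (A ⊔ (S : Subgroup G)) χ
  have hS8 : Nat.card (S : Subgroup G) = 8 := by rw [D.card_eq, h.h_two]
  have hcardH : Nat.card ↥(A ⊔ (S : Subgroup G)) = Nat.card A * 8 := by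
    rw [← Nat.card_eq_of_bijective f' hbij, Nat.card_prod, hS8]
  let g : Fin 8 → (S : Subgroup G) := ![1,
    ⟨W, rot_mem S D⟩, ⟨Z, SetLike.coe_mem _⟩, ⟨W * Z, mul_mem (rot_mem S D) (SetLike.coe_mem _)⟩,
    ⟨T, SetLike.coe_mem _⟩, ⟨W * T, mul_mem (rot_mem S D) (SetLike.coe_mem _)⟩,
    ⟨Z * T, mul_mem (SetLike.coe_mem _) (SetLike.coe_mem _)⟩,
    ⟨W * Z * T, mul_mem (mul_mem (rot_mem S D) (SetLike.coe_mem _)) (SetLike.coe_mem _)⟩]
  have hgb : Function.Bijective g := by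
    refine Function.Surjective.bijective_of_nat_card_le ?_ (by rw [hS8]; simp)
    rintro ⟨x, hx⟩
    rcases h.sylow_cases hx with e' | e' | e' | e' | e' | e' | e' | e' <;> subst e'
    exacts [⟨0, rfl⟩, ⟨1, rfl⟩, ⟨2, rfl⟩, ⟨3, rfl⟩, ⟨4, rfl⟩, ⟨5, rfl⟩, ⟨6, rfl⟩, ⟨7, rfl⟩]
  have hnot : ∀ x ∈ (S : Subgroup G), x ≠ 1 → x ∉ oddCent Z := fun x hx hx1 hxO =>
    hx1 (h.eq_one_of_mem_sylow hxO hx)
  have hsum8 : ∀ v ∈ A, ∑ s : (S : Subgroup G), (χ : G → ℂ) (v * s) =
      (χ : G → ℂ) v + (5 * c + 2 * e : ℂ) := by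
    intro v hv
    have h0 : (χ : G → ℂ) (v * 1) = (χ : G → ℂ) v := by rw [mul_one]
    have h1 := hrot v hv W (hWinv v hv) (IsConj.refl _)
    have h2 : (χ : G → ℂ) (v * Z) = c := by
      rw [(h.mem_odd.1 (hAO hv).1).1.eq, h.section_const hM hχ (hAO hv).1, hc]
    have hWZ : W * Z * v * (W * Z)⁻¹ = v⁻¹ := by
      rw [show W * Z * v * (W * Z)⁻¹ = W * (Z * v * Z⁻¹) * W⁻¹ by group, hZfix v hv, hWinv v hv]
    have h3 := hrot v hv (W * Z) hWZ (by
      have := isConj_rot_inv S D 1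
      rwa [pow_one, h.rot_inv] at this)
    have h4 := hTval v hv
    have hWT : W * T * v * (W * T)⁻¹ = v⁻¹ := by
      rw [show W * T * v * (W * T)⁻¹ = W * (T * v * T⁻¹) * W⁻¹ by group, hTfix v hv, hWinv v hv]
    have h5 := hrefl v hv (W * T) h.rot_refl_commute_dz hWT rot_refl_invol
      (hnot _ (mul_mem (rot_mem S D) (SetLike.coe_mem _)) (invol_ne_one rot_refl_invol))
    have h6 : (χ : G → ℂ) (v * (Z * T)) = c := by
      have hcn : Commute v (W * W) := by
        rw [h.rot_sq]; exact (h.mem_odd.1 (hAO hv).1).1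
      calc (χ : G → ℂ) (v * (Z * T)) = (χ : G → ℂ) (W * (v * (Z * T)) * W⁻¹) := (hcl _ _).symm
        _ = (χ : G → ℂ) (v⁻¹ * T) := by
          congr 1
          rw [show W * (v * (Z * T)) * W⁻¹ = (W * v * W⁻¹) * (W * (Z * T) * W⁻¹) by group,
            hWinv v hv]
          congr 1
          rw [← h.rot_sq, show W * (W * W * T) * W⁻¹ = (W * W) * (W * T * W⁻¹) by group,
            show W * T * W⁻¹ = W * W * T by
              have hTW : T * W⁻¹ = W * T := by
                calc T * W⁻¹ = W * (W⁻¹ * T) * W⁻¹ := by group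
                  _ = W * (T * W) * W⁻¹ := by rw [h.refl_mul_rot]
                  _ = W * T := by group
              rw [mul_assoc W T, hTW, mul_assoc],
            h.rot_sq, ← mul_assoc Z Z T, invol_mul_self dz_invol, one_mul]
        _ = c := hTval _ (inv_mem hv)
    have hWZT : orderOf (W * Z * T) = 2 := by
      refine invol_of_mul_self ?_ fun e' => ?_
      · calc W * Z * T * (W * Z * T) = W * Z * (T * W) * (Z * T) := by group
          _ = W * Z * (W⁻¹ * T) * (Z * T) := by rw [h.refl_mul_rot]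
          _ = (Z * (W * W⁻¹)) * (T * Z * T) := by
            rw [← h.commute_dz_rot.eq]; group
          _ = 1 := by
            rw [mul_inv_cancel, mul_one, h.refl_commute_dz.eq, mul_assoc,
              invol_mul_self refl_invol, mul_one, invol_mul_self dz_invol]
      · refine hnot T (SetLike.coe_mem _) (invol_ne_one refl_invol) ?_
        exfalso
        have hT' : T = W := by
          rw [eq_inv_of_mul_eq_one_right e', ← h.rot_inv, inv_inv]
        have := h.orderOf_rot'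
        rw [← hT', refl_invol] at this
        omega
    have h7 := hrefl v hv (W * Z * T) ((h.commute_dz_rot.symm.mul_left (Commute.refl _)).mul_left
        h.refl_commute_dz) (by
      rw [show W * Z * T * v * (W * Z * T)⁻¹ = W * Z * (T * v * T⁻¹) * (W * Z)⁻¹ by group,
        hTfix v hv, hWZ]) hWZT
      (hnot _ (mul_mem (mul_mem (rot_mem S D) (SetLike.coe_mem _)) (SetLike.coe_mem _))
        (invol_ne_one hWZT))
    rw [← Fintype.sum_equiv (Equiv.ofBijective g hgb) (fun i => (χ : G → ℂ) (v * g i)) _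
      (fun i => rfl), Fin.sum_univ_eight]
    simp only [g, Matrix.cons_val_zero, Matrix.cons_val_one, Matrix.cons_val, OneMemClass.coe_one]
    rw [h0, h1, h2, h3, h4, h5, h6, h7]
    ring
  have hsumH : ∑ x : ↥(A ⊔ (S : Subgroup G)), (χ : G → ℂ) x =
      (Nat.card A : ℂ) * ((f : ℂ) + 5 * c + 2 * e) := by
    rw [← Fintype.sum_equiv (Equiv.ofBijective f' hbij)
      (fun p => (χ : G → ℂ) ((p.1 : G) * p.2)) _ (fun p => rfl), Fintype.sum_prod_type,
      Finset.sum_congr rfl (fun (v : A) _ => hsum8 (v : G) v.2), Finset.sum_add_distrib, hsumA,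
      Finset.sum_const, Finset.card_univ, nsmul_eq_mul, ← Nat.card_eq_fintype_card]
    ring
  rw [hsumH, hcardH, Nat.cast_mul, mul_assoc] at hk
  have hk' := mul_left_cancel₀ (natCard_ne_zero (G := A)) hk
  refine ⟨f, (k : ℤ), ?_, hdeg ▸ hfle, fun hA0 => ?_, fun hA0 => ?_⟩
  · apply Int.cast_injective (α := ℂ)
    push_cast
    push_cast at hk'
    exact hk'
  · have hsub : ∀ v : A, (v : G) = 1 := fun v => mem_bot.1 (by simpa only [hA0] using v.2)
    rw [Finset.sum_congr rfl (fun (v : A) _ => congrArg (χ : G → ℂ) (hsub v)), Finset.sum_const,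
      Finset.card_univ, nsmul_eq_mul, ← Nat.card_eq_fintype_card,
      ← CfsgLib.BlockB.irr_degree_cast χ] at hsumA
    exact (Nat.cast_injective (mul_left_cancel₀ (natCard_ne_zero (G := A)) hsumA)).symm
  · rw [hdeg]
    refine lt_of_le_of_ne hfle fun hfn => ?_
    have htop : inv = ⊤ := Submodule.eq_top_of_finrank_eq (hfn.trans (Module.finrank_fin_fun ℂ).symm)
    have hker : A ≤ (MonoidHom.ker ρ : Subgroup G) := fun v hv => MonoidHom.mem_ker.2
      (LinearMap.ext fun x => (htop ▸ Submodule.mem_top : x ∈ inv) ⟨v, hv⟩)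
    rcases (inferInstance : (MonoidHom.ker ρ : Subgroup G).Normal).eq_bot_or_eq_top with hk0 | hk0
    · exact hA0 (le_bot_iff.1 (hk0 ▸ hker))
    · refine hne ?_
      rw [← hρχ]
      exact char_eq_one_of_trivial ρ fun x => MonoidHom.mem_ker.1 (hk0 ▸ mem_top x)

omit hM in
theorem card_inverting :
    Nat.card {t : G // orderOf (Z * (t * W * t⁻¹)) = 2} =
      4 * Nat.card ↥(centralizer ({Z} : Set G)) := by
  have hinvol : ∀ c : centralizer ({W} : Set G), orderOf ((c : G) * T) = 2 := fun c => by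
    obtain ⟨i, hi⟩ := mem_zpowers_iff.1 (h.cent_rot ▸ c.2 : (c : G) ∈ zpowers W)
    rw [show (c : G) * T = (((D.r ^ i * D.s : (S : Subgroup G))) : G) by simp [← hi],
      Subgroup.orderOf_coe, D.orderOf_zy]
  have hex : ∀ c : centralizer ({W} : Set G), ∃ g : G, g * ((c : G) * T) * g⁻¹ = Z := fun c =>
    isConj_iff.1 (h.hone _ _ (hinvol c) dz_invol)
  choose g hg using hex
  have hinvert : ∀ c : centralizer ({W} : Set G),
      (c : G) * T * W * ((c : G) * T)⁻¹ = W⁻¹ := fun c => by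
    have hc : (c : G) * W = W * c := mem_centralizer_singleton_iff.1 c.2
    rw [show (c : G) * T * W * ((c : G) * T)⁻¹ = (c : G) * (T * W * T⁻¹) * (c : G)⁻¹ by group,
      refl_conj S D, (Commute.inv_right hc).eq, mul_inv_cancel_right]
  have hkey : ∀ t : G, orderOf (Z * (t * W * t⁻¹)) = 2 ↔
      (t⁻¹ * Z * t) * W * (t⁻¹ * Z * t)⁻¹ = W⁻¹ := by
    intro t
    have hz := invol_inv (dz_invol (S := S) (D := D))
    have e1 : (t⁻¹ * Z * t) * W * (t⁻¹ * Z * t)⁻¹ = t⁻¹ * (Z * (t * W * t⁻¹) * Z) * t := by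
      rw [mul_inv_rev, mul_inv_rev, hz, inv_inv]; group
    constructor
    · intro ho
      have h1 := invol_mul_self ho
      rw [e1, eq_inv_iff_mul_eq_one]
      calc t⁻¹ * (Z * (t * W * t⁻¹) * Z) * t * W =
          t⁻¹ * (Z * (t * W * t⁻¹) * (Z * (t * W * t⁻¹))) * t := by group
        _ = 1 := by rw [h1]; group
    · intro ho
      rw [e1, eq_inv_iff_mul_eq_one] at ho
      refine invol_of_mul_self ?_ fun e => ?_
      · calc Z * (t * W * t⁻¹) * (Z * (t * W * t⁻¹)) =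
            t * (t⁻¹ * (Z * (t * W * t⁻¹) * Z) * t * W) * t⁻¹ := by group
          _ = 1 := by rw [ho]; group
      · have h4 : orderOf (t * W * t⁻¹) = 4 := by
          rw [CfsgLib.Invol.orderOf_conj_eq]; exact h.orderOf_rot'
        rw [eq_inv_of_mul_eq_one_right e, orderOf_inv, dz_invol] at h4
        omega
  rw [← h.card_cent, ← Nat.card_prod]
  symm
  refine Nat.card_eq_of_bijective (fun p : centralizer ({W} : Set G) × centralizer ({Z} : Set G) =>
    (⟨(p.2 : G) * g p.1, ?_⟩ : {t : G // orderOf (Z * (t * W * t⁻¹)) = 2})) ⟨?_, ?_⟩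
  · rw [hkey, show ((p.2 : G) * g p.1)⁻¹ * Z * ((p.2 : G) * g p.1) =
      (g p.1)⁻¹ * ((p.2 : G)⁻¹ * (Z * (p.2 : G))) * g p.1 by group,
      ← mem_centralizer_singleton_iff.1 p.2.2, inv_mul_cancel_left,
      show (g p.1)⁻¹ * Z * g p.1 = (p.1 : G) * T by conv_lhs => arg 1; arg 2; rw [← hg p.1]
                                                    group]
    exact hinvert p.1
  · rintro ⟨c, x⟩ ⟨c', x'⟩ he
    have he' : (x : G) * g c = x' * g c' := congrArg Subtype.val he
    have key : ∀ (c : centralizer ({W} : Set G)) (x : centralizer ({Z} : Set G)),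
        ((x : G) * g c)⁻¹ * Z * ((x : G) * g c) = (c : G) * T := fun c x => by
      rw [show ((x : G) * g c)⁻¹ * Z * ((x : G) * g c) =
          (g c)⁻¹ * ((x : G)⁻¹ * (Z * (x : G))) * g c by group,
        ← mem_centralizer_singleton_iff.1 x.2, inv_mul_cancel_left]
      conv_lhs => arg 1; arg 2; rw [← hg c]
      group
    obtain rfl : c = c' := Subtype.ext (mul_right_cancel (by rw [← key c x, ← key c' x', he']))
    obtain rfl : x = x' := Subtype.ext (mul_right_cancel he')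
    rfl
  · rintro ⟨t, ht⟩
    have hj := (hkey t).1 ht
    set j := t⁻¹ * Z * t with hjdef
    have hc : j * T ∈ centralizer ({W} : Set G) := by
      rw [mem_centralizer_singleton_iff, ← mul_inv_eq_iff_eq_mul]
      calc j * T * W * (j * T)⁻¹ = j * (T * W * T⁻¹) * j⁻¹ := by group
        _ = (j * W * j⁻¹)⁻¹ := by rw [refl_conj S D]; group
        _ = W := by rw [hj, inv_inv]
    have hjT : j * T * T = j := by rw [mul_assoc, invol_mul_self refl_invol, mul_one]
    have hx : t * (g ⟨_, hc⟩)⁻¹ ∈ centralizer ({Z} : Set G) := by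
      have h1 := hg ⟨_, hc⟩
      rw [hjT] at h1
      generalize g ⟨_, hc⟩ = gg at h1 ⊢
      rw [mem_centralizer_singleton_iff]
      conv_lhs => arg 2; rw [← h1]
      rw [hjdef]; group
    exact ⟨⟨⟨_, hc⟩, ⟨_, hx⟩⟩, Subtype.ext (inv_mul_cancel_right _ _)⟩

omit hM in
/-- The data of the principal block. -/
theorem block_data [IsSimpleGroup G] :
    ∃ X Y V : ℤ, X % 8 = 1 ∧ Y % 8 = 3 ∧ V % 8 = 3 ∧ Y + V = -(1 + X) ∧ X ≠ 1 ∧
      (Nat.card G : ℤ) * (X - 1) ^ 2 = 64 * X * (X + 1) *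
        ((Nat.card (fixPart S D) : ℤ) * Nat.card (fixPart' S D) *
          ((Nat.card (fixPart S D) : ℤ) + Nat.card (fixPart' S D)) ^ 2) ∧
      256 * ((Nat.card (fixPart S D) : ℤ) * Nat.card (fixPart' S D)) ^ 2 * (X * Y * V) =
        (Nat.card G : ℤ) * (X * Y * V + Y * V + X * V + X * Y) ∧
      (1 < Nat.card (fixPart S D) → 8 ≤ |X| ∧ 8 ≤ |Y| ∧ 8 ≤ |V|) := by
  classical
  have := Fintype.ofFinite G
  have := Fintype.ofFinite (IrrCharacter G)
  obtain ⟨M, hM⟩ := CfsgLib.BlockB.exists_isPModular Nat.prime_two (p := 2)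
  have := hM.2.1.isPrime
  have hh : 2 ≤ D.h := h.h_two.ge
  have hζ : IsPrimitiveRoot (Complex.exp (2 * Real.pi * Complex.I / ((2 * D.h : ℕ) : ℂ))) (2 * D.h) :=
    Complex.isPrimitiveRoot_exp _ (by omega)
  obtain ⟨χ₁, χ₂, χ₃, χ', δ₁, δ₂, δ₃, Sh⟩ := exists_shape hM S D hh hζ
  obtain ⟨hx1, hord⟩ := order_formula hM S D hh hζ Sh h.hone
  set x₁ := charDegree (χ₁ : G → ℂ) with hx₁
  set x₂ := charDegree (χ₂ : G → ℂ) with hx₂
  set x₃ := charDegree (χ₃ : G → ℂ) with hx₃
  have hmem : ∀ χ, χ = χ₁ ∨ χ = χ₂ ∨ χ = χ₃ → χ ∈ principalBlock M G := fun χ hχ => by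
    rw [Sh.block_eq]
    rcases hχ with rfl | rfl | rfl
    exacts [Or.inr (Or.inl rfl), Or.inr (Or.inr (Or.inl rfl)), Or.inr (Or.inr (Or.inr (Or.inl rfl)))]
  have hn1 : ¬ 2 * D.h ∣ 1 := by rw [h.h_two]; decide
  have hn2 : ¬ 2 * D.h ∣ D.h := by rw [h.h_two]; decide
  have hw₁ : (χ₁ : G → ℂ) W = δ₁ := by simpa using Sh.val₁ 1 hn1
  have hw₂ : (χ₂ : G → ℂ) W = δ₂ := by simpa using Sh.val₂ 1 hn1
  have hw₃ : (χ₃ : G → ℂ) W = δ₃ := by simpa using Sh.val₃ 1 hn1
  have hz₁ : (χ₁ : G → ℂ) Z = δ₁ := by rw [← rot_pow_h S D, Sh.val₁ _ hn2]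
  have hz₂ : (χ₂ : G → ℂ) Z = ((-δ₂ : ℤ) : ℂ) := by
    rw [← rot_pow_h S D, Sh.val₂ _ hn2, h.h_two]; push_cast; ring
  have hz₃ : (χ₃ : G → ℂ) Z = ((-δ₃ : ℤ) : ℂ) := by
    rw [← rot_pow_h S D, Sh.val₃ _ hn2, h.h_two]; push_cast; ring
  have hbot := fun {χ : IrrCharacter G} (hχ : χ ∈ principalBlock M G)
    (hne : (χ : G → ℂ) ≠ fun _ => 1) {c e : ℤ} (hc : (χ : G → ℂ) Z = c)
    (he : (χ : G → ℂ) W = e) => h.fixed_congr hM hχ hne hc he ⊥ bot_le
  obtain ⟨f₁, k₁, e₁, -, b₁, -⟩ := hbot (hmem _ (Or.inl rfl)) Sh.ne_one₁ hz₁ hw₁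
  obtain ⟨f₂, k₂, e₂, -, b₂, -⟩ := hbot (hmem _ (Or.inr (Or.inl rfl))) Sh.ne_one₂ hz₂ hw₂
  obtain ⟨f₃, k₃, e₃, -, b₃, -⟩ := hbot (hmem _ (Or.inr (Or.inr rfl))) Sh.ne_one₃ hz₃ hw₃
  rw [b₁ rfl, ← hx₁] at e₁
  rw [b₂ rfl, ← hx₂] at e₂
  rw [b₃ rfl, ← hx₃] at e₃
  refine ⟨δ₁ * x₁, δ₂ * x₂, δ₃ * x₃, ?_, ?_, ?_, ?_, ?_, ?_, ?_, fun hA => ?_⟩
  · rcases Sh.sgn₁ with e | e <;> subst e <;> omega
  · rcases Sh.sgn₂ with e | e <;> subst e <;> omega
  · rcases Sh.sgn₃ with e | e <;> subst e <;> omega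
  · have h1 := (Sh.rel 1 (by rw [orderOf_one]; norm_num) 1
      (Finset.mem_Ico.2 ⟨le_rfl, hh⟩)).1
    rw [← CfsgLib.BlockB.irr_degree_cast χ₁, ← CfsgLib.BlockB.irr_degree_cast χ₂,
      ← CfsgLib.BlockB.irr_degree_cast χ₃] at h1
    apply Int.cast_injective (α := ℂ)
    push_cast
    linear_combination h1
  · intro e
    rcases Sh.sgn₁ with e' | e' <;> subst e' <;> omega
  · rw [dt_zero, dt_one, h.card_centralizer_refl, h.card_centralizer_rot_refl,
      h.card_centralizer_dz] at hord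
    set a := Nat.card (fixPart S D)
    set b := Nat.card (fixPart' S D)
    have ha : (a : ℚ) ≠ 0 := Nat.cast_ne_zero.2 Nat.card_pos.ne'
    have hb : (b : ℚ) ≠ 0 := Nat.cast_ne_zero.2 Nat.card_pos.ne'
    push_cast at hord
    field_simp at hord
    apply Int.cast_injective (α := ℚ)
    push_cast
    rcases Sh.sgn₁ with e | e <;> subst e <;> push_cast at hord ⊢ <;>
      linear_combination hord / 16
  · -- the class multiplication
    set cJ := Nat.card (centralizer ({Z} : Set G))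
    set θ : G → ℂ := classIndicator (ConjClasses.mk Z) with hθ
    have hθval : ∀ g, θ g = if orderOf g = 2 then 1 else 0 := fun g => by
      rw [hθ]
      unfold classIndicator
      by_cases e : orderOf g = 2
      · have e' : ConjClasses.mk g = ConjClasses.mk Z :=
          ConjClasses.mk_eq_mk_iff_isConj.2 (h.hone _ _ e dz_invol)
        simp [e, e']
      · have e' : ConjClasses.mk g ≠ ConjClasses.mk Z := fun e' => e (by
          rw [CfsgLib.Invol.orderOf_eq_of_isConj (ConjClasses.mk_eq_mk_iff_isConj.1 e').symm,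
            dz_invol])
        simp [e, e']
    have hmul := CfsgLib.BlockB.sum_classFun_mul_conj (θ := θ)
      (classIndicator_isClassFunction _) Z W
    have hl : ∑ t : G, θ (Z * (t * W * t⁻¹)) = ((4 * cJ : ℕ) : ℂ) := by
      simp only [hθval, Finset.sum_boole]
      rw [← h.card_inverting, Nat.card_eq_fintype_card, Fintype.card_subtype]
    have hinner : ∀ χ : IrrCharacter G, classInner θ (χ : G → ℂ) =
        (cJ : ℂ)⁻¹ * conj ((χ : G → ℂ) Z) := fun χ => by
      rw [classInner_def, hθ, sum_classIndicator_mul _ _ (irr_isClassFunction χ.2) Z rfl]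
      have h3 := natCard_carrier_mul_centralizer (G := G) Z
      have hc0 : (Nat.card (ConjClasses.mk Z).carrier : ℂ) ≠ 0 := by
        have : Nonempty (ConjClasses.mk Z).carrier := ⟨⟨Z, ConjClasses.mem_carrier_mk⟩⟩
        exact_mod_cast Nat.card_pos.ne'
      rw [← h3, Nat.cast_mul, mul_inv,
        show (cJ : ℂ) = (Nat.card (centralizer ({Z} : Set G)) : ℂ) from rfl]
      field_simp
    rw [hl] at hmul
    -- the other characters vanish at the rotation
    let T4 : Finset (IrrCharacter G) := {trivIrr, χ₁, χ₂, χ₃}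
    have e1 : (trivIrr : IrrCharacter G) ≠ χ₁ := fun e => Sh.ne_one₁ (by rw [← e]; rfl)
    have e2 : (trivIrr : IrrCharacter G) ≠ χ₂ := fun e => Sh.ne_one₂ (by rw [← e]; rfl)
    have e3 : (trivIrr : IrrCharacter G) ≠ χ₃ := fun e => Sh.ne_one₃ (by rw [← e]; rfl)
    have hT4 : ∀ F : IrrCharacter G → ℂ,
        ∑ χ ∈ T4, F χ = F trivIrr + F χ₁ + F χ₂ + F χ₃ := fun F => by
      rw [Finset.sum_insert (by simp [e1, e2, e3]), Finset.sum_insert (by simp [Sh.ne₁₂, Sh.ne₁₃]),
        Finset.sum_pair Sh.ne₂₃]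
      ring
    have hvan : ∀ χ ∉ T4, (χ : G → ℂ) W = 0 := by
      intro χ hχ
      have h4 := column_orthogonality (G := G) W W
      rw [if_pos (IsConj.refl _), h.card_cent, ← Finset.sum_compl_add_sum T4, hT4] at h4
      simp only [trivIrr, hw₁, hw₂, hw₃, map_one, map_intCast] at h4
      have hsq : ∀ d : ℤ, d = 1 ∨ d = -1 → (d : ℂ) * (d : ℂ) = 1 := by
        rintro d (rfl | rfl) <;> norm_num
      rw [hsq _ Sh.sgn₁, hsq _ Sh.sgn₂, hsq _ Sh.sgn₃] at h4
      have h0 : ∑ x ∈ T4ᶜ, (x : G → ℂ) W * conj ((x : G → ℂ) W) = 0 := by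
        push_cast at h4; linear_combination h4
      simp only [Complex.mul_conj] at h0
      rw [← Complex.ofReal_sum, Complex.ofReal_eq_zero,
        Finset.sum_eq_zero_iff_of_nonneg fun _ _ => Complex.normSq_nonneg _] at h0
      exact Complex.normSq_eq_zero.1 (h0 χ (Finset.mem_compl.2 hχ))
    rw [← Finset.sum_subset (Finset.subset_univ T4) (fun χ _ hχ => by simp [hvan χ hχ]), hT4,
      hinner, hinner, hinner, hinner] at hmul
    simp only [trivIrr, hw₁, hw₂, hw₃, hz₁, hz₂, hz₃, map_one, map_intCast,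
      ← CfsgLib.BlockB.irr_degree_cast χ₁, ← CfsgLib.BlockB.irr_degree_cast χ₂,
      ← CfsgLib.BlockB.irr_degree_cast χ₃, ← hx₁, ← hx₂, ← hx₃] at hmul
    have n1 : (x₁ : ℂ) ≠ 0 := Nat.cast_ne_zero.2 (CfsgLib.BlockB.irr_degree_ne_zero χ₁)
    have n2 : (x₂ : ℂ) ≠ 0 := Nat.cast_ne_zero.2 (CfsgLib.BlockB.irr_degree_ne_zero χ₂)
    have n3 : (x₃ : ℂ) ≠ 0 := Nat.cast_ne_zero.2 (CfsgLib.BlockB.irr_degree_ne_zero χ₃)
    have nc : (cJ : ℂ) ≠ 0 := Nat.cast_ne_zero.2 Nat.card_pos.ne'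
    have hcJ : (cJ : ℂ) = 8 * ((Nat.card (fixPart S D) : ℂ) * Nat.card (fixPart' S D)) := by
      exact_mod_cast h.card_centralizer_dz
    apply Int.cast_injective (α := ℂ)
    push_cast at hmul ⊢
    field_simp at hmul
    rw [hcJ] at hmul
    rcases Sh.sgn₁ with e | e <;> rcases Sh.sgn₂ with e' | e' <;> rcases Sh.sgn₃ with e'' | e'' <;>
      subst e <;> subst e' <;> subst e'' <;> push_cast at hmul ⊢ <;>
      first
        | linear_combination hmul
        | linear_combination -hmul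
  · have hne : fixPart S D ≠ ⊥ := fun e => by rw [e, card_bot] at hA; omega
    obtain ⟨g₁, l₁, a₁, -, -, c₁⟩ := h.fixed_congr hM (hmem _ (Or.inl rfl)) Sh.ne_one₁ hz₁ hw₁
      (fixPart S D) le_rfl
    obtain ⟨g₂, l₂, a₂, -, -, c₂⟩ := h.fixed_congr hM (hmem _ (Or.inr (Or.inl rfl))) Sh.ne_one₂
      hz₂ hw₂ (fixPart S D) le_rfl
    obtain ⟨g₃, l₃, a₃, -, -, c₃⟩ := h.fixed_congr hM (hmem _ (Or.inr (Or.inr rfl))) Sh.ne_one₃
      hz₃ hw₃ (fixPart S D) le_rfl
    have d₁ := c₁ hne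
    have d₂ := c₂ hne
    have d₃ := c₃ hne
    rw [← hx₁] at d₁; rw [← hx₂] at d₂; rw [← hx₃] at d₃
    refine ⟨?_, ?_, ?_⟩ <;>
      [rcases Sh.sgn₁ with e | e; rcases Sh.sgn₂ with e | e; rcases Sh.sgn₃ with e | e] <;>
      subst e <;> simp only [one_mul, neg_mul, abs_neg, Nat.abs_cast] <;> omega

end Setup

end CfsgLib.StructC.CentFour
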