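import Cfsg.Agent.Lib.StructC.CentFour.Local
import Cfsg.Agent.Lib.BlockA.KleinOrder
import Cfsg.Agent.Lib.BlockB.PModular
import Cfsg.Agent.Lib.Invol.Simple

/-!
The centralizer of the part of the odd core fixed by a reflection: it has a Klein four Sylow
2-subgroup and one class of involutions, which bounds the index of a normalizer.
-/

set_option autoImplicit false
set_option linter.unusedSectionVars false

namespace CfsgLib.StructC.CentFour

open Subgroup CfsgLib.Invol CfsgLib.BlockA.DihedralBlock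

universe u

/-- The lower bound from the order formula of a block with Klein four defect group. -/
theorem klein_ratio {x y w : ℤ} {e f g : ℤ} (hx : 1 ≤ x) (hy : 1 ≤ y) (hw : 1 ≤ w)
    (he : e = 1 ∨ e = -1) (hf : f = 1 ∨ f = -1) (hg : g = 1 ∨ g = -1)
    (hsum : 1 + e * x + f * y + g * w = 0) :
    3 * ((x + e) * (y + f) * (w + g)) ≤ 8 * (x * y * w) := by
  have two : ∀ p q r : ℤ, 1 ≤ p → 1 ≤ q → r = p + q + 1 →
      3 * ((p + 1) * (q + 1) * (r - 1)) ≤ 8 * (p * q * r) := by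
    rintro p q r hp hq rfl
    nlinarith [mul_nonneg (sub_nonneg.2 hp) (sub_nonneg.2 hq),
      mul_nonneg (mul_nonneg (sub_nonneg.2 hp) (sub_nonneg.2 hq)) (by omega : 0 ≤ p + q),
      mul_nonneg (sub_nonneg.2 hp) (by omega : 0 ≤ p + q),
      mul_nonneg (sub_nonneg.2 hq) (by omega : 0 ≤ p + q)]
  have one : ∀ p q r : ℤ, 1 ≤ p → 1 ≤ q → 1 ≤ r →
      3 * ((p + 1) * (q - 1) * (r - 1)) ≤ 8 * (p * q * r) := by
    intro p q r hp hq hr
    have h1 : (q - 1) * (r - 1) ≤ q * r := by nlinarith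
    have h2 : (p + 1) * ((q - 1) * (r - 1)) ≤ 2 * p * (q * r) :=
      mul_le_mul (by omega) h1 (mul_nonneg (by omega) (by omega)) (by omega)
    nlinarith [mul_nonneg (mul_nonneg (show (0 : ℤ) ≤ p by omega) (show (0 : ℤ) ≤ q by omega))
      (show (0 : ℤ) ≤ r by omega)]
  rcases he with rfl | rfl <;> rcases hf with rfl | rfl <;> rcases hg with rfl | rfl
  · omega
  · have := two x y w hx hy (by omega); linarith
  · have := two x w y hx hw (by omega); linarith
  · have := one x y w hx hy hw; linarith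
  · have := two y w x hy hw (by omega); linarith
  · have := one y x w hy hx hw; linarith
  · have := one w x y hw hx hy; linarith
  · have h1 : (x + -1) * (y + -1) ≤ x * y := by nlinarith
    have h2 : (x + -1) * (y + -1) * (w + -1) ≤ x * y * w :=
      mul_le_mul h1 (by omega) (by omega) (mul_nonneg (by omega) (by omega))
    nlinarith [mul_nonneg (mul_nonneg (show (0 : ℤ) ≤ x by omega) (show (0 : ℤ) ≤ y by omega))
      (show (0 : ℤ) ≤ w by omega)]

theorem card_subgroupOf_inf {G : Type u} [Group G] (H K : Subgroup G) :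
    Nat.card (K.subgroupOf H) = Nat.card ↥(H ⊓ K) := by
  rw [Nat.card_congr ((K.subgroupOf H).equivMapOfInjective _ H.subtype_injective).toEquiv,
    subgroupOf_map_subtype, inf_comm]

variable {G : Type u} [Group G] [Finite G] {S : Sylow 2 G} {D : DihData (S : Subgroup G)}

local notation "Z" => dz S D
local notation "W" => rot S D
local notation "T" => refl S D

namespace Setup

variable (h : Setup S D)
include h

theorem exists_linking :
    ∃ g : G, g * Z * g⁻¹ = T ∧ g * (W * (g⁻¹ * Z * g) * W⁻¹) * g⁻¹ = T * Z := by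
  have : Fact (Nat.Prime 2) := ⟨Nat.prime_two⟩
  obtain ⟨g₀, hg₀⟩ := isConj_iff.1 (h.hone Z T dz_invol refl_invol)
  set r := g₀⁻¹ * Z * g₀ with hr
  have hrc : Commute r Z := by
    have := (h.refl_commute_dz.symm).map (MulAut.conj g₀⁻¹).toMonoidHom
    simp only [MulEquiv.coe_toMonoidHom, MulAut.conj_apply, inv_inv] at this
    rwa [← hg₀, show g₀⁻¹ * (g₀ * Z * g₀⁻¹) * g₀ = Z by group, hr.symm.trans rfl] at this
  have hro : orderOf r = 2 := by
    rw [hr]
    conv_lhs => arg 1; arg 2; rw [← inv_inv g₀]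
    rw [CfsgLib.Invol.orderOf_conj_eq, dz_invol]
  set C := centralizer ({Z} : Set G) with hC
  set R : C := ⟨r, mem_centralizer_singleton_iff.2 hrc.eq⟩
  obtain ⟨y, hy⟩ := exists_conj_invol_mem_sylow (S.subtype (sylow_le_centralizer_dz S D))
    (x := R) (by rw [← Subgroup.orderOf_coe]; exact hro)
  have hyS : (y : G) * r * (y : G)⁻¹ ∈ (S : Subgroup G) := hy
  have hyZ : (y : G)⁻¹ * Z * (y : G) = Z := by
    rw [mul_assoc, ← mem_centralizer_singleton_iff.1 y.2, inv_mul_cancel_left]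
  refine ⟨g₀ * (y : G)⁻¹, ?_, ?_⟩
  · rw [show g₀ * (y : G)⁻¹ * Z * (g₀ * (y : G)⁻¹)⁻¹ = g₀ * ((y : G)⁻¹ * Z * y) * g₀⁻¹ by group,
      hyZ, hg₀]
  · set g := g₀ * (y : G)⁻¹ with hgdef
    have hs : g⁻¹ * Z * g = (y : G) * r * (y : G)⁻¹ := by rw [hgdef, hr]; group
    rw [← hs] at hyS
    have hgz : g * Z * g⁻¹ = T := by
      rw [hgdef, show g₀ * (y : G)⁻¹ * Z * (g₀ * (y : G)⁻¹)⁻¹ =
        g₀ * ((y : G)⁻¹ * Z * y) * g₀⁻¹ by group, hyZ, hg₀]
    have hso : orderOf (⟨_, hyS⟩ : (S : Subgroup G)) = 2 := by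
      rw [Subgroup.orderOf_mk, hs, CfsgLib.Invol.orderOf_conj_eq, hro]
    have hsw : W * (g⁻¹ * Z * g) * W⁻¹ = Z * (g⁻¹ * Z * g) := by
      rcases D.invol_cases hso with e | ⟨i, e⟩
      · exfalso
        have e' : g⁻¹ * Z * g = Z := congrArg Subtype.val e
        have : T = Z := by
          rw [← hgz]
          conv_lhs => arg 1; arg 2; rw [← e']
          group
        exact D.ne_zpow 0 D.h (Subtype.ext (dt_zero.trans this))
      · have e' : g⁻¹ * Z * g = ((D.r ^ i * D.s : (S : Subgroup G)) : G) := congrArg Subtype.val e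
        have h1 := congrArg Subtype.val (D.conj_refl 1 i)
        rw [e', ← h.rot_sq]
        simp only [Subgroup.coe_mul, Subgroup.coe_inv, SubgroupClass.coe_zpow, zpow_one] at h1 ⊢
        rw [h1, add_comm, mul_one, zpow_add, zpow_two, mul_assoc]
    rw [hsw, show g * (Z * (g⁻¹ * Z * g)) * g⁻¹ = (g * Z * g⁻¹) * Z by group, hgz]

theorem klein_elems {s : G} (hs : s ∈ (S : Subgroup G)) {v : G} (hv : v ∈ fixPart S D) (hv1 : v ≠ 1)
    (hc : Commute s v) : Commute s T := by
  obtain ⟨hvO, hvT⟩ := h.mem_fix.1 hv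
  have hW : ¬ Commute W v := fun e => hv1 (h.eq_one_of_sq hvO (by
    have h1 := h.rot_inverts.1 v hvO
    rw [e.eq, mul_inv_cancel_right] at h1
    conv_lhs => arg 1; rw [h1]
    rw [inv_mul_cancel]))
  have hZ : Commute Z v := (h.mem_odd.1 hvO).1.symm
  have hT := h.refl_commute_dz
  rcases h.sylow_cases hs with e | e | e | e | e | e | e | e <;> subst e
  · exact Commute.one_left _
  · exact absurd hc hW
  · exact hT.symm
  · exact absurd (by simpa using hc.mul_left hZ.inv_left) hW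
  · exact Commute.refl _
  · exact absurd (by simpa using hc.mul_left hvT.symm.inv_left) hW
  · exact hT.symm.mul_left (Commute.refl _)
  · exact absurd (by simpa using (hc.mul_left hvT.symm.inv_left).mul_left hZ.inv_left) hW

/-- **The index bound.** -/
theorem index_bound [IsSimpleGroup G] (ha : 1 < Nat.card (fixPart S D)) :
    ∃ k : ℕ, 24 * k * Nat.card (fixPart S D) * Nat.card (fixPart' S D) ^ 3 ≤ Nat.card G ∧
      Nat.card G ∣ k.factorial := by
  classical
  have : Fact (Nat.Prime 2) := ⟨Nat.prime_two⟩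
  set A := fixPart S D with hA
  set M := centralizer (A : Set G) with hMdef
  have hmemM : ∀ {x : G}, (∀ v ∈ A, Commute v x) → x ∈ M := fun hx =>
    mem_centralizer_iff.2 fun v hv => (hx v hv).eq
  have hOM : ∀ v ∈ oddCent Z, v ∈ M := fun v hv => hmemM fun u hu =>
    h.odd_comm (h.mem_fix.1 hu).1 hv
  have hKM : ∀ s ∈ (S : Subgroup G), Commute s T → s ∈ M := fun s hs hc => hmemM fun u hu => by
    rcases h.sylow_commute_refl hs hc with e | e | e | e <;> subst e
    · exact Commute.one_right u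
    · exact (h.mem_odd.1 (h.mem_fix.1 hu).1).1
    · exact (h.mem_fix.1 hu).2
    · exact (h.mem_odd.1 (h.mem_fix.1 hu).1).1.mul_right (h.mem_fix.1 hu).2
  have hTS : T ∈ (S : Subgroup G) := SetLike.coe_mem _
  have hZS : Z ∈ (S : Subgroup G) := SetLike.coe_mem _
  have hTM : T ∈ M := hKM T hTS (Commute.refl _)
  have hZM : Z ∈ M := hKM Z hZS h.refl_commute_dz.symm
  obtain ⟨v₀, hv₀, hv₁⟩ : ∃ v ∈ A, v ≠ 1 := by
    by_contra hno
    push Not at hno
    have : A = ⊥ := eq_bot_iff.2 fun v hv => mem_bot.2 (hno v hv)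
    rw [this, card_bot] at ha
    omega
  -- the four group
  set K : Subgroup G := (S : Subgroup G) ⊓ centralizer ({T} : Set G) with hKdef
  have hK : ∀ {s : G}, s ∈ K ↔ s ∈ (S : Subgroup G) ∧ Commute s T := by
    intro s
    rw [hKdef, mem_inf, mem_centralizer_singleton_iff]
    exact Iff.rfl
  have hne : T ≠ Z := fun e => D.ne_zpow 0 D.h (Subtype.ext (dt_zero.trans e))
  have hZT : Z * T ≠ 1 := fun e => hne (by
    rw [eq_inv_of_mul_eq_one_right e, invol_inv dz_invol])
  have hKcard : Nat.card K = 4 := by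
    have h1 : (K : Set G) = {1, Z, T, Z * T} := by
      ext s
      simp only [SetLike.mem_coe, hK, Set.mem_insert_iff, Set.mem_singleton_iff]
      constructor
      · rintro ⟨hs, hc⟩; exact h.sylow_commute_refl hs hc
      · rintro (rfl | rfl | rfl | rfl)
        exacts [⟨one_mem _, Commute.one_left _⟩, ⟨hZS, h.refl_commute_dz.symm⟩,
          ⟨hTS, Commute.refl _⟩, ⟨mul_mem hZS hTS, h.refl_commute_dz.symm.mul_left (Commute.refl _)⟩]
    show Nat.card (K : Set G) = 4
    rw [Nat.card_coe_set_eq, h1]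
    have n1 : Z ≠ 1 := invol_ne_one dz_invol
    have n2 : T ≠ 1 := invol_ne_one refl_invol
    have e1 : (1 : G) ∉ ({Z, T, Z * T} : Set G) := by
      simp only [Set.mem_insert_iff, Set.mem_singleton_iff]; tauto
    have e2 : Z ∉ ({T, Z * T} : Set G) := by
      simp only [Set.mem_insert_iff, Set.mem_singleton_iff, left_eq_mul]; tauto
    have e3 : T ≠ Z * T := by simp [n1]
    rw [Set.ncard_insert_of_notMem e1, Set.ncard_insert_of_notMem e2, Set.ncard_pair e3]
  have hKleM : K ≤ M := fun s hs => hKM s (hK.1 hs).1 (hK.1 hs).2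
  -- the centralizer of the central involution in `M`
  set o := Nat.card A * Nat.card (fixPart' S D) with ho
  have hMZ : Nat.card ↥(M ⊓ centralizer ({Z} : Set G)) = 4 * o := by
    rw [ho, hA, ← h.card_odd, mul_comm, ← hKcard, ← Nat.card_prod]
    symm
    refine Nat.card_eq_of_bijective (fun p : oddCent Z × K =>
      (⟨(p.1 : G) * p.2, mul_mem (hOM _ p.1.2) (hKleM p.2.2),
        mul_mem (h.odd_le p.1.2) (sylow_le_centralizer_dz S D (hK.1 p.2.2).1)⟩ :
          ↥(M ⊓ centralizer ({Z} : Set G)))) ⟨?_, ?_⟩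
    · rintro ⟨⟨a, ha'⟩, ⟨b, hb⟩⟩ ⟨⟨a', ha''⟩, ⟨b', hb'⟩⟩ he
      have he' : a * b = a' * b' := congrArg Subtype.val he
      have e : a'⁻¹ * a = b' * b⁻¹ := by
        rw [eq_mul_inv_iff_mul_eq, mul_assoc, he', inv_mul_cancel_left]
      have h1 := h.eq_one_of_mem_sylow (mul_mem (inv_mem ha'') ha')
        (e ▸ mul_mem (hK.1 hb').1 (inv_mem (hK.1 hb).1))
      obtain rfl : a' = a := inv_mul_eq_one.1 h1
      obtain rfl : b = b' := mul_left_cancel he'
      rfl
    · rintro ⟨x, hxM, hxZ⟩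
      obtain ⟨v, hv, s, hs, rfl⟩ := h.cent_decomp (mem_centralizer_singleton_iff.1 hxZ)
      have hsM : s ∈ M := by simpa using mul_mem (inv_mem (hOM v hv)) hxM
      have hsT := h.klein_elems hs hv₀ hv₁ (mem_centralizer_iff.1 hsM v₀ hv₀).symm
      exact ⟨⟨⟨v, hv⟩, ⟨s, hK.2 ⟨hs, hsT⟩⟩⟩, rfl⟩
  set zM : M := ⟨Z, hZM⟩
  set tM : M := ⟨T, hTM⟩
  have hcz : Nat.card ↥(centralizer ({zM} : Set M)) = 4 * o := by
    rw [← hMZ, ← card_subgroupOf_inf]
    congr 2
    ext x
    rw [mem_centralizer_singleton_iff, mem_subgroupOf, mem_centralizer_singleton_iff]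
    exact Subtype.ext_iff
  -- the fusion in `M`
  obtain ⟨g, hg, hg'⟩ := h.exists_linking
  set w₁ := g * W * g⁻¹ with hw₁
  have hw₁z : w₁ * Z * w₁⁻¹ = T * Z := by
    rw [← hg', hw₁]; group
  have hw₁A : ∀ v ∈ A, w₁ * v * w₁⁻¹ = v⁻¹ := by
    intro v hv
    have h1 : g⁻¹ * v * g ∈ oddCent Z := h.mem_odd.2 ⟨by
      have := ((h.mem_fix.1 hv).2).map (MulAut.conj g⁻¹).toMonoidHom
      simp only [MulEquiv.coe_toMonoidHom, MulAut.conj_apply, inv_inv] at this
      rwa [← hg, show g⁻¹ * (g * Z * g⁻¹) * g = Z by group] at this, by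
      have h2 := CfsgLib.Invol.orderOf_conj_eq g⁻¹ v
      rw [inv_inv] at h2
      rw [h2]; exact (h.mem_odd.1 (h.mem_fix.1 hv).1).2⟩
    have h2 := h.rot_inverts.1 _ h1
    calc w₁ * v * w₁⁻¹ = g * (W * (g⁻¹ * v * g) * W⁻¹) * g⁻¹ := by rw [hw₁]; group
      _ = v⁻¹ := by rw [h2]; group
  have hWA : ∀ v ∈ A, W * v * W⁻¹ = v⁻¹ := fun v hv => h.rot_inverts.1 v (h.mem_fix.1 hv).1
  have inv2 : ∀ p q : G, (∀ v ∈ A, p * v * p⁻¹ = v⁻¹) → (∀ v ∈ A, q * v * q⁻¹ = v⁻¹) →
      p * q ∈ M := by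
    intro p q hp hq
    refine hmemM fun v hv => ?_
    have e : p * q * v * (p * q)⁻¹ = v := by
      rw [show p * q * v * (p * q)⁻¹ = p * (q * v * q⁻¹) * p⁻¹ by group, hq v hv, ← conj_inv,
        hp v hv, inv_inv]
    exact (mul_inv_eq_iff_eq_mul.1 e).symm
  have hZTconj : IsConj zM (tM * zM) := by
    refine isConj_iff.2 ⟨⟨w₁ * W, inv2 _ _ hw₁A hWA⟩, Subtype.ext ?_⟩
    show w₁ * W * Z * (w₁ * W)⁻¹ = T * Z
    rw [show w₁ * W * Z * (w₁ * W)⁻¹ = w₁ * (W * Z * W⁻¹) * w₁⁻¹ by group,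
      ← h.commute_dz_rot.eq, mul_inv_cancel_right, hw₁z]
  have hTconj : IsConj zM tM := by
    refine isConj_iff.2 ⟨⟨W * w₁, inv2 _ _ hWA hw₁A⟩, Subtype.ext ?_⟩
    show W * w₁ * Z * (W * w₁)⁻¹ = T
    rw [show W * w₁ * Z * (W * w₁)⁻¹ = W * (w₁ * Z * w₁⁻¹) * W⁻¹ by group, hw₁z]
    calc W * (T * Z) * W⁻¹ = (W * W) * (W⁻¹ * T) * (Z * W⁻¹) := by group
      _ = Z * (T * W) * (Z * W⁻¹) := by rw [h.rot_sq, h.refl_mul_rot]
      _ = Z * T * (W * Z) * W⁻¹ := by group
      _ = Z * T * (Z * W) * W⁻¹ := by rw [h.commute_dz_rot.eq]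
      _ = Z * (T * Z) := by group
      _ = T := by
        rw [h.refl_commute_dz.eq, ← mul_assoc, invol_mul_self dz_invol, one_mul]
  -- the Sylow subgroup of `M`
  set E : Subgroup M := K.subgroupOf M with hE
  have hEcard : Nat.card E = 4 := by
    rw [Nat.card_congr (subgroupOfEquivOfLe hKleM).toEquiv, hKcard]
  obtain ⟨P, hEP⟩ := (IsPGroup.of_card (n := 2) (by rw [hEcard]; rfl) : IsPGroup 2 E).exists_le_sylow
  have hEle : ∀ x ∈ E, x = 1 ∨ x = zM ∨ x = tM ∨ x = zM * tM := fun x hx => by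
    rcases h.sylow_commute_refl (hK.1 hx).1 (hK.1 hx).2 with e | e | e | e
    exacts [Or.inl (Subtype.ext e), Or.inr (Or.inl (Subtype.ext e)),
      Or.inr (Or.inr (Or.inl (Subtype.ext e))), Or.inr (Or.inr (Or.inr (Subtype.ext e)))]
  have h4o : ∀ Q : Subgroup M, IsPGroup 2 Q → Q ≤ centralizer ({zM} : Set M) → Nat.card Q ∣ 4 := by
    intro Q hQ hle
    obtain ⟨j, hj⟩ := hQ.exists_card_eq
    have hd := card_dvd_of_le hle
    rw [hcz, hj] at hd
    rw [hj]
    refine Nat.Coprime.dvd_of_dvd_mul_right ?_ hd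
    refine Nat.Coprime.pow_left _ (Nat.coprime_two_left.2 ?_)
    rw [ho, hA, ← h.card_odd]; exact h.card_odd_odd
  have hEcomm : ∀ x ∈ E, x * zM = zM * x := fun x hx => Subtype.ext
    (mem_centralizer_singleton_iff.1 (sylow_le_centralizer_dz S D (hK.1 hx).1))
  have hP4 : Nat.card (P : Subgroup M) = 4 := by
    have hnt : Nontrivial (P : Subgroup M) :=
      ⟨⟨⟨zM, hEP (show Z ∈ K from hK.2 ⟨hZS, h.refl_commute_dz.symm⟩)⟩, 1, fun e =>
        invol_ne_one dz_invol (congrArg (fun x : (P : Subgroup M) => ((x : M) : G)) e)⟩⟩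
    have := P.2.center_nontrivial
    obtain ⟨c, hc⟩ := exists_ne (1 : center (P : Subgroup M))
    have hzP : zM ∈ (P : Subgroup M) := hEP (show Z ∈ K from hK.2 ⟨hZS, h.refl_commute_dz.symm⟩)
    have hQ : (P : Subgroup M) ⊓ centralizer ({zM} : Set M) = E := by
      refine (eq_of_le_of_card_ge (le_inf hEP fun x hx =>
        mem_centralizer_singleton_iff.2 (hEcomm x hx)) ?_).symm
      rw [hEcard]
      exact Nat.le_of_dvd (by norm_num) (h4o _ (P.2.to_le inf_le_left) inf_le_right)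
    have hcE : ((c : (P : Subgroup M)) : M) ∈ E := hQ ▸ ⟨(c : (P : Subgroup M)).2,
      mem_centralizer_singleton_iff.2
        (congrArg Subtype.val (mem_center_iff.1 c.2 ⟨zM, hzP⟩)).symm⟩
    have hconj : IsConj zM ((c : (P : Subgroup M)) : M) := by
      rcases hEle _ hcE with e | e | e | e
      · exact absurd (Subtype.ext (Subtype.ext e)) hc
      · rw [e]
      · rw [e]; exact hTconj
      · rw [e, show zM * tM = tM * zM from Subtype.ext h.refl_commute_dz.symm.eq]; exact hZTconj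
    obtain ⟨m, hm⟩ := isConj_iff.1 hconj
    have hle : (P : Subgroup M).map (MulAut.conj m⁻¹).toMonoidHom ≤
        centralizer ({zM} : Set M) := by
      rintro _ ⟨x, hx, rfl⟩
      have hxc : Commute x ((c : (P : Subgroup M)) : M) :=
        congrArg Subtype.val (mem_center_iff.1 c.2 ⟨x, hx⟩)
      rw [← hm] at hxc
      have := hxc.map (MulAut.conj m⁻¹).toMonoidHom
      simp only [MulEquiv.coe_toMonoidHom, MulAut.conj_apply, inv_inv] at this ⊢
      rw [show m⁻¹ * (m * zM * m⁻¹) * m = zM by group] at this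
      exact mem_centralizer_singleton_iff.2 this.eq
    have hd := h4o _ (P.2.map _) hle
    rw [← Nat.card_congr (Subgroup.equivMapOfInjective _ _
      (MulAut.conj m⁻¹).injective).toEquiv] at hd
    exact le_antisymm (Nat.le_of_dvd (by norm_num) hd) (hEcard ▸ card_le_of_le hEP)
  have hPE : (P : Subgroup M) = E := (eq_of_le_of_card_ge hEP (by rw [hEcard, hP4])).symm
  obtain ⟨g₀, hg₀, hGM⟩ : ∃ g₀ : ℕ, Odd g₀ ∧ Nat.card M = 4 * g₀ := by
    refine ⟨(P : Subgroup M).index, Nat.not_even_iff_odd.1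
      (fun e => P.not_dvd_index (even_iff_two_dvd.1 e)), ?_⟩
    rw [← (P : Subgroup M).card_mul_index, hP4]
  have hnc : ¬ ∃ N : Subgroup M, N.Normal ∧ Nat.card N = g₀ := by
    rintro ⟨N, hN, hNc⟩
    have hq : Nat.card (M ⧸ N) = 4 := by
      have := Subgroup.card_eq_card_quotient_mul_card_subgroup N
      rw [hGM, hNc] at this
      exact (Nat.eq_of_mul_eq_mul_right hg₀.pos this).symm
    have hcomm := IsPGroup.commutative_of_card_eq_prime_sq (G := M ⧸ N) (p := 2) (by rw [hq]; rfl)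
    have key : ∀ x, IsConj zM x → QuotientGroup.mk' N x = QuotientGroup.mk' N zM := by
      intro x hx
      obtain ⟨m, rfl⟩ := isConj_iff.1 hx
      rw [map_mul, map_mul, map_inv, hcomm, inv_mul_cancel_left]
    have h1 : QuotientGroup.mk' N (tM * zM) = QuotientGroup.mk' N zM := key _ hZTconj
    rw [map_mul, mul_eq_right, QuotientGroup.mk'_apply, QuotientGroup.eq_one_iff] at h1
    have h2 : 2 ∣ g₀ := by
      rw [← hNc, ← show orderOf (⟨tM, h1⟩ : N) = 2 by
        rw [Subgroup.orderOf_mk, ← Subgroup.orderOf_coe]; exact refl_invol]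
      exact orderOf_dvd_natCard _
    exact Nat.not_even_iff_odd.2 hg₀ (even_iff_two_dvd.2 h2)
  obtain ⟨hKP, hone⟩ := CfsgLib.BlockA.klein_setup hg₀ hGM hnc P
  have hzP : zM ∈ (P : Subgroup M) := hPE ▸ (show Z ∈ K from hK.2 ⟨hZS, h.refl_commute_dz.symm⟩)
  have hz1 : zM ≠ 1 := fun e => invol_ne_one dz_invol (congrArg Subtype.val e)
  have hCP : Nat.card ↥(centralizer ((P : Subgroup M) : Set M)) = 4 * Nat.card A := by
    rw [hPE, hA, ← h.card_centralizer_refl,
      Nat.card_congr ((centralizer (E : Set M)).equivMapOfInjective _ M.subtype_injective).toEquiv]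
    congr 2
    ext x
    constructor
    · rintro ⟨y, hy, rfl⟩
      refine mem_centralizer_iff.2 ?_
      rintro q (rfl | rfl)
      · exact congrArg Subtype.val (mem_centralizer_iff.1 hy zM
          (show Z ∈ K from hK.2 ⟨hZS, h.refl_commute_dz.symm⟩))
      · exact congrArg Subtype.val (mem_centralizer_iff.1 hy tM
          (show T ∈ K from hK.2 ⟨hTS, Commute.refl _⟩))
    · intro hx
      have hxZ : Commute x Z := (mem_centralizer_iff.1 hx Z (Set.mem_insert _ _)).symm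
      have hxT : Commute x T :=
        (mem_centralizer_iff.1 hx T (Set.mem_insert_of_mem _ rfl)).symm
      obtain ⟨v, hv, s, hs, rfl⟩ := h.cent_decomp hxZ
      have hxM : v * s ∈ M := by
        obtain ⟨π, hid, hker⟩ := exists_retraction S D
        set V : centralizer ({Z} : Set G) := ⟨v, h.odd_le hv⟩
        set U : centralizer ({Z} : Set G) := ⟨s, sylow_le_centralizer_dz S D hs⟩
        set R : centralizer ({Z} : Set G) :=
          ⟨T, mem_centralizer_singleton_iff.2 h.refl_commute_dz.eq⟩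
        have hcomm := congrArg π (Subtype.ext hxT.eq : V * U * R = R * (V * U))
        simp only [map_mul, (hker V).2 (h.mem_odd.1 hv).2, one_mul, hid U hs,
          hid R (SetLike.coe_mem _)] at hcomm
        exact mul_mem (hOM v hv) (hKM s hs (congrArg Subtype.val hcomm))
      refine ⟨⟨_, hxM⟩, mem_centralizer_iff.2 fun y hy => Subtype.ext ?_, rfl⟩
      rcases hEle y hy with e | e | e | e <;> subst e
      · simp
      · exact hxZ.eq.symm
      · exact hxT.eq.symm
      · exact (hxZ.mul_right hxT).eq.symm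
  -- the order formula in `M`
  obtain ⟨Mx, hMx⟩ := CfsgLib.BlockB.exists_isPModular Nat.prime_two (p := 2)
  have := hMx.2.1.isPrime
  obtain ⟨hcard4, hvals⟩ := CfsgLib.BlockA.klein_principal_card hMx P hKP hone hzP hz1
  set B := Cfsg.principalBlock Mx M with hB
  have htriv : CfsgLib.Block.trivIrr ∈ B := CfsgLib.Block.one_mem_principalBlock
  have h3 : (B \ {CfsgLib.Block.trivIrr}).ncard = 3 := by
    rw [Set.ncard_sdiff_singleton_of_mem htriv, ← Nat.card_coe_set_eq, hcard4]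
  obtain ⟨χ₁, χ₂, χ₃, h12, h13, h23, he⟩ := Set.ncard_eq_three.1 h3
  have hmem : ∀ χ, χ = χ₁ ∨ χ = χ₂ ∨ χ = χ₃ → χ ∈ B ∧ χ ≠ CfsgLib.Block.trivIrr := by
    intro χ hχ
    have : χ ∈ B \ {CfsgLib.Block.trivIrr} := by rw [he]; simpa using hχ
    simpa using this
  have hBset : Cfsg.principalBlock Mx M = {χ : Cfsg.IrrCharacter M |
      (χ : M → ℂ) = (fun _ => 1) ∨ χ = χ₁ ∨ χ = χ₂ ∨ χ = χ₃} := by
    ext χ
    constructor
    · intro hχ
      by_cases e : χ = CfsgLib.Block.trivIrr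
      · exact Or.inl (by rw [e]; rfl)
      · exact Or.inr (by
          have : χ ∈ B \ {CfsgLib.Block.trivIrr} := ⟨hχ, e⟩
          rw [he] at this
          simpa using this)
    · rintro (e | e)
      · rw [show χ = CfsgLib.Block.trivIrr from Subtype.ext e]; exact htriv
      · exact (hmem χ e).1
  have hdist : (χ₁ : M → ℂ) ≠ (fun _ => 1) ∧ (χ₂ : M → ℂ) ≠ (fun _ => 1) ∧
      (χ₃ : M → ℂ) ≠ (fun _ => 1) ∧ χ₁ ≠ χ₂ ∧ χ₁ ≠ χ₃ ∧ χ₂ ≠ χ₃ :=
    ⟨fun e => (hmem χ₁ (Or.inl rfl)).2 (Subtype.ext e),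
      fun e => (hmem χ₂ (Or.inr (Or.inl rfl))).2 (Subtype.ext e),
      fun e => (hmem χ₃ (Or.inr (Or.inr rfl))).2 (Subtype.ext e), h12, h13, h23⟩
  have hsgn : ∀ χ : Cfsg.IrrCharacter M, χ ∈ B →
      ∃ e : ℤ, (e = 1 ∨ e = -1) ∧ (χ : M → ℂ) zM = e := fun χ hχ => by
    rcases hvals χ hχ with e | e
    · exact ⟨1, Or.inl rfl, by simpa using e⟩
    · exact ⟨-1, Or.inr rfl, by simpa using e⟩
  obtain ⟨e₁, he₁, v₁⟩ := hsgn χ₁ (hmem _ (Or.inl rfl)).1
  obtain ⟨e₂, he₂, v₂⟩ := hsgn χ₂ (hmem _ (Or.inr (Or.inl rfl))).1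
  obtain ⟨e₃, he₃, v₃⟩ := hsgn χ₃ (hmem _ (Or.inr (Or.inr rfl))).1
  have hrel := CfsgLib.BlockA.klein_degree_relation hMx hKP hone hzP hz1 hBset hdist ⟨v₁, v₂, v₃⟩
  have hord := CfsgLib.BlockA.klein_order_formula hMx hKP hone hzP hz1 hBset hdist ⟨v₁, v₂, v₃⟩
    ⟨he₁, he₂, he₃⟩
  rw [hCP, hcz] at hord
  have hp : ∀ χ : Cfsg.IrrCharacter M, (1 : ℤ) ≤ Cfsg.charDegree (χ : M → ℂ) := fun χ => by
    exact_mod_cast CfsgLib.BlockB.irr_degree_pos χ
  have hratio := klein_ratio (hp χ₁) (hp χ₂) (hp χ₃) he₁ he₂ he₃ hrel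
  have hq1 := hp χ₁
  have hq2 := hp χ₂
  have hq3 := hp χ₃
  set x : ℤ := (Cfsg.charDegree (χ₁ : M → ℂ) : ℤ)
  set y : ℤ := (Cfsg.charDegree (χ₂ : M → ℂ) : ℤ)
  set w : ℤ := (Cfsg.charDegree (χ₃ : M → ℂ) : ℤ)
  set a := Nat.card A
  set b := Nat.card (fixPart' S D)
  have hbpos : 0 < b := Nat.card_pos
  rw [ho] at hord
  push_cast at hord
  have hapos : (0 : ℤ) < a := by exact_mod_cast (show 0 < a by omega)
  have hprod : 0 < x * y * w := mul_pos (mul_pos (by omega) (by omega)) (by omega)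
  have hord' : (Nat.card M : ℤ) * ((x + e₁) * (y + e₂) * (w + e₃)) =
      32 * a * (b : ℤ) ^ 3 * (x * y * w) := by
    refine mul_right_cancel₀ (show (16 : ℤ) * (a : ℤ) ^ 2 ≠ 0 by positivity) ?_
    linear_combination hord
  have hMbound : 12 * a * b ^ 3 ≤ Nat.card M := by
    have hpos : 0 < (x + e₁) * (y + e₂) * (w + e₃) := by
      have h0 : 0 < 32 * (a : ℤ) * (b : ℤ) ^ 3 * (x * y * w) :=
        mul_pos (by positivity) hprod
      rw [← hord'] at h0
      exact pos_of_mul_pos_right h0 (Int.natCast_nonneg _)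
    have h1 : ((12 * a * b ^ 3 : ℕ) : ℤ) * (8 * (x * y * w)) ≤
        (Nat.card M : ℤ) * (8 * (x * y * w)) := by
      have h2 := mul_le_mul_of_nonneg_left hratio (Int.natCast_nonneg (Nat.card M))
      push_cast
      linarith
    exact_mod_cast le_of_mul_le_mul_right h1 (by omega)
  -- the normalizer
  set N := normalizer (A : Set G) with hN
  have hWN : W ∈ N := mem_normalizer_iff_of_finite fun v hv => by
    rw [hWA v hv]; exact inv_mem hv
  have hWM : W ∉ M := fun e => hv₁ (h.eq_one_of_sq (h.mem_fix.1 hv₀).1 (by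
    have h1 := hWA v₀ hv₀
    rw [← mem_centralizer_iff.1 e v₀ hv₀, mul_inv_cancel_right] at h1
    conv_lhs => arg 1; rw [h1]
    rw [inv_mul_cancel]))
  have hMN : M ≤ N := centralizer_le_normalizer _
  have hNM : 2 * Nat.card M ≤ Nat.card N := by
    have h1 := (M.subgroupOf N).card_mul_index
    rw [Nat.card_congr (subgroupOfEquivOfLe hMN).toEquiv] at h1
    have h0 : (M.subgroupOf N).index ≠ 0 := index_ne_zero_of_finite
    have h2 : (M.subgroupOf N).index ≠ 1 := fun e => hWM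
      (show (⟨W, hWN⟩ : N) ∈ M.subgroupOf N by rw [index_eq_one.1 e]; exact mem_top _)
    rw [← h1, mul_comm]
    exact Nat.mul_le_mul_left _ (by omega)
  have hNtop : N ≠ ⊤ := by
    intro e
    rcases (normalizer_eq_top_iff.1 e).eq_bot_or_eq_top with e' | e'
    · rw [show a = Nat.card A from rfl, e', card_bot] at ha; omega
    · exact invol_ne_one refl_invol (h.eq_one_of_sq
        (h.mem_fix.1 (e' ▸ mem_top T)).1 (invol_mul_self refl_invol))
  refine ⟨N.index, ?_, card_dvd_index_factorial hNtop⟩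
  rw [← N.card_mul_index]
  calc 24 * N.index * a * b ^ 3 = 2 * (12 * a * b ^ 3) * N.index := by ring
    _ ≤ 2 * Nat.card M * N.index := by gcongr
    _ ≤ Nat.card N * N.index := by gcongr

end Setup

end CfsgLib.StructC.CentFour
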