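import Cfsg.Agent.Lib.StructC.CentFour.Reduce
import Cfsg.Agent.Lib.StructC.CentFour.Chars
import Cfsg.Agent.Lib.StructC.CentFour.FixCentralizer
import Cfsg.Agent.Lib.StructC.CentFour.Arith
import Cfsg.Agent.Lib.ClassK.FourCent.Recog

/-!
Simple groups with an element whose centralizer has order at most four.
-/

set_option autoImplicit false

namespace CfsgLib.StructC.CentFour

open Subgroup CfsgLib.Invol CfsgLib.BlockA.DihedralBlock

universe u

variable {G : Type u} [Group G] [Finite G] {S : Sylow 2 G} {D : DihData (S : Subgroup G)}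

namespace Setup

variable (h : Setup S D)
include h

theorem exists_cofactor : ∃ N : ℕ, Odd N ∧
    Nat.card G = 8 * (Nat.card (fixPart S D) * Nat.card (fixPart' S D)) * N := by
  have : Fact (Nat.Prime 2) := ⟨Nat.prime_two⟩
  obtain ⟨N, hN⟩ := card_subgroup_dvd_card (centralizer ({dz S D} : Set G))
  rw [h.card_centralizer_dz] at hN
  refine ⟨N, ?_, hN⟩
  rw [← Nat.not_even_iff_odd, even_iff_two_dvd]
  rintro ⟨c, rfl⟩
  have h8 := two_pow_factorization S D
  rw [h.h_two] at h8
  have h16 : 2 ^ 4 ∣ Nat.card G :=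
    ⟨Nat.card (fixPart S D) * Nat.card (fixPart' S D) * c, by rw [hN]; ring⟩
  have h4 : 4 ≤ (Nat.card G).factorization 2 :=
    (Nat.prime_two.pow_dvd_iff_le_factorization Nat.card_pos.ne').1 h16
  have := Nat.pow_le_pow_right two_pos h4
  omega

theorem order_cases_of_le [IsSimpleGroup G]
    (hle : Nat.card (fixPart' S D) ≤ Nat.card (fixPart S D)) :
    Nat.card G = 360 ∨ Nat.card G = 168 ∨ Nat.card G = 2520 := by
  obtain ⟨N, hNo, hN⟩ := h.exists_cofactor
  obtain ⟨X, Y, V, hX, -, -, hYV, hX1, hord, hcm, hdeg⟩ := h.block_data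
  refine orders h.odd_fix.1 h.odd_fix.2 hle hNo hN hX hYV hX1 hord hcm hdeg fun hb => ?_
  obtain ⟨D', h', -, -, -, e, e'⟩ := h.exists_swap
  have := h'.index_bound (by rwa [e])
  rwa [e, e'] at this

theorem order_cases [IsSimpleGroup G] :
    Nat.card G = 360 ∨ Nat.card G = 168 ∨ Nat.card G = 2520 := by
  rcases le_total (Nat.card (fixPart' S D)) (Nat.card (fixPart S D)) with hle | hle
  · exact h.order_cases_of_le hle
  · obtain ⟨D', h', -, -, -, e, e'⟩ := h.exists_swap
    exact h'.order_cases_of_le (by rwa [e, e'])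

end Setup

theorem main [IsSimpleGroup G] (hG : ¬ IsCyclic G) (w : G)
    (hw : Nat.card ↥(centralizer ({w} : Set G)) ≤ 4) :
    CfsgLib.ClassK.FourCent.Concl G := by
  rcases reduce hG w hw with (e | e) | ⟨S, D, hD, hr, hc⟩
  · exact Or.inl e
  · exact Or.inr (Or.inr (Or.inr e))
  · have hone := one_class_of_no_index_two S D (index_ne_two_of_simple (not_comm hG))
    have h : Setup S D := ⟨hD, by rw [hr]; exact hc, hone⟩
    exact CfsgLib.ClassK.FourCent.concl_of_card h.order_cases

end CfsgLib.StructC.CentFour
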