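import Cfsg.Agent.Lib.BlockA.DihedralCount
import Mathlib.GroupTheory.FixedPointFree

/-!
The centralizer of the central involution of a dihedral Sylow 2-subgroup of order eight whose
rotation of order four is self-centralizing.
-/

set_option autoImplicit false
set_option linter.unusedSectionVars false

namespace CfsgLib.StructC.CentFour

open Subgroup CfsgLib.Invol CfsgLib.BlockA.DihedralBlock

universe u

variable {G : Type u} [Group G] [Finite G]

/-- The situation left by the reduction. -/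
structure Setup (S : Sylow 2 G) (D : DihData (S : Subgroup G)) : Prop where
  h_two : D.h = 2
  card_cent : Nat.card ↥(centralizer ({rot S D} : Set G)) = 4
  hone : ∀ s t : G, orderOf s = 2 → orderOf t = 2 → IsConj s t

/-- The subgroup generated by the elements of odd order centralizing `z`. -/
def oddCent (z : G) : Subgroup G := closure {v | Commute v z ∧ ¬ 2 ∣ orderOf v}

/-- The part of the odd core of the centralizer fixed by the reflection. -/
def fixPart (S : Sylow 2 G) (D : DihData (S : Subgroup G)) : Subgroup G :=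
  oddCent (dz S D) ⊓ centralizer ({refl S D} : Set G)

/-- The part of the odd core of the centralizer fixed by the other reflection. -/
def fixPart' (S : Sylow 2 G) (D : DihData (S : Subgroup G)) : Subgroup G :=
  oddCent (dz S D) ⊓ centralizer ({rot S D * refl S D} : Set G)

variable {S : Sylow 2 G} {D : DihData (S : Subgroup G)}

local notation "Z" => dz S D
local notation "W" => rot S D
local notation "T" => refl S D

theorem dz_invol : orderOf Z = 2 := (Subgroup.orderOf_coe _).trans D.orderOf_z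

theorem refl_invol : orderOf T = 2 := by rw [Subgroup.orderOf_coe, D.orderOf_s]

theorem dt_zero : dt S D 0 = T := by
  show (((D.r ^ (0 : ℤ) * D.s : (S : Subgroup G))) : G) = _
  rw [zpow_zero, one_mul]

theorem dt_one : dt S D 1 = W * T := by
  show (((D.r ^ (1 : ℤ) * D.s : (S : Subgroup G))) : G) = _
  rw [zpow_one]; rfl

theorem rot_refl_invol : orderOf (W * T) = 2 := by
  rw [← dt_one]
  exact (Subgroup.orderOf_coe _).trans (D.orderOf_zy 1)

namespace Setup

variable (h : Setup S D)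
include h

theorem rot_sq : W * W = Z := by
  rw [← pow_two, ← rot_pow_h S D, h.h_two]

theorem rot_inv : W⁻¹ = W * Z := by
  refine inv_eq_of_mul_eq_one_right ?_
  rw [← h.rot_sq, ← pow_one W, ← pow_add, ← pow_add, ← pow_add, rot_pow_eq_one_iff S D, h.h_two]

theorem orderOf_rot' : orderOf W = 4 := by rw [orderOf_rot, h.h_two]

theorem refl_mul_rot : T * W = W⁻¹ * T := by
  have := refl_conj S D
  rwa [mul_inv_eq_iff_eq_mul] at this

theorem commute_dz_rot : Commute Z W := by
  rw [← h.rot_sq]; exact (Commute.refl W).mul_left (Commute.refl W)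

theorem cent_rot : centralizer ({W} : Set G) = zpowers W := by
  refine (eq_of_le_of_card_ge ?_ ?_).symm
  · exact zpowers_le.2 (mem_centralizer_singleton_iff.2 rfl)
  · rw [h.card_cent, Nat.card_zpowers, h.orderOf_rot']

/-- The eight elements of the Sylow subgroup. -/
theorem sylow_cases {x : G} (hx : x ∈ (S : Subgroup G)) :
    x = 1 ∨ x = W ∨ x = Z ∨ x = W * Z ∨ x = T ∨ x = W * T ∨ x = Z * T ∨ x = W * Z * T := by
  have hpow : ∀ i : ℤ, (((D.r ^ i : (S : Subgroup G))) : G) = 1 ∨
      (((D.r ^ i : (S : Subgroup G))) : G) = W ∨ (((D.r ^ i : (S : Subgroup G))) : G) = Z ∨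
      (((D.r ^ i : (S : Subgroup G))) : G) = W * Z := by
    intro i
    rw [SubgroupClass.coe_zpow, ← zpow_mod_orderOf, h.orderOf_rot']
    have h1 : 0 ≤ i % (4 : ℕ) := Int.emod_nonneg _ (by norm_num)
    have h2 : i % (4 : ℕ) < 4 := Int.emod_lt_of_pos _ (by norm_num)
    rcases (show i % (4 : ℕ) = 0 ∨ i % (4 : ℕ) = 1 ∨ i % (4 : ℕ) = 2 ∨ i % (4 : ℕ) = 3 by omega)
      with e | e | e | e <;> rw [e]
    · exact Or.inl (zpow_zero _)
    · exact Or.inr (Or.inl (zpow_one _))
    · exact Or.inr (Or.inr (Or.inl (by rw [zpow_two, h.rot_sq])))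
    · refine Or.inr (Or.inr (Or.inr ?_))
      rw [show (3 : ℤ) = 1 + 2 by norm_num, zpow_add, zpow_one, zpow_two, h.rot_sq]
  rcases D.cases ⟨x, hx⟩ with ⟨i, hi⟩ | ⟨i, hi⟩
  · have e : x = (((D.r ^ i : (S : Subgroup G))) : G) := congrArg Subtype.val hi
    rcases hpow i with e' | e' | e' | e' <;> rw [e'] at e
    · exact Or.inl e
    · exact Or.inr (Or.inl e)
    · exact Or.inr (Or.inr (Or.inl e))
    · exact Or.inr (Or.inr (Or.inr (Or.inl e)))
  · have e : x = (((D.r ^ i : (S : Subgroup G))) : G) * T := congrArg Subtype.val hi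
    refine Or.inr (Or.inr (Or.inr (Or.inr ?_)))
    rcases hpow i with e' | e' | e' | e' <;> rw [e'] at e
    · exact Or.inl (by rw [e, one_mul])
    · exact Or.inr (Or.inl e)
    · exact Or.inr (Or.inr (Or.inl e))
    · exact Or.inr (Or.inr (Or.inr e))

theorem mem_odd {v : G} : v ∈ oddCent Z ↔ Commute v Z ∧ ¬ 2 ∣ orderOf v := by
  refine ⟨fun hv => ?_, fun hv => subset_closure hv⟩
  obtain ⟨π, -, hker⟩ := exists_retraction S D
  have hle : oddCent Z ≤ π.ker.map (centralizer ({Z} : Set G)).subtype := by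
    rw [oddCent, closure_le]
    rintro x ⟨hx, hxo⟩
    exact ⟨⟨x, mem_centralizer_singleton_iff.2 hx.eq⟩, (hker _).2 hxo, rfl⟩
  obtain ⟨⟨x, hxC⟩, hx, rfl⟩ := hle hv
  exact ⟨mem_centralizer_singleton_iff.1 hxC, (hker _).1 hx⟩

theorem odd_le : oddCent Z ≤ centralizer ({Z} : Set G) := fun _ hv =>
  mem_centralizer_singleton_iff.2 (h.mem_odd.1 hv).1.eq

theorem conj_mem_odd {x v : G} (hx : Commute x Z) (hv : v ∈ oddCent Z) :
    x * v * x⁻¹ ∈ oddCent Z := by
  rw [h.mem_odd] at hv ⊢
  exact ⟨(hx.mul_left hv.1).mul_left hx.inv_left, by rw [CfsgLib.Invol.orderOf_conj_eq]; exact hv.2⟩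

theorem eq_one_of_sq {v : G} (hv : v ∈ oddCent Z) (h2 : v * v = 1) : v = 1 :=
  eq_one_of_sq_of_odd h2 (Nat.not_even_iff_odd.1 fun e => (h.mem_odd.1 hv).2 (even_iff_two_dvd.1 e))

theorem eq_one_of_mem_sylow {v : G} (hv : v ∈ oddCent Z) (hS : v ∈ (S : Subgroup G)) : v = 1 := by
  obtain ⟨k, hk⟩ := IsPGroup.iff_orderOf.1 S.2 ⟨v, hS⟩
  rw [Subgroup.orderOf_mk] at hk
  refine orderOf_eq_one_iff.1 ?_
  rcases k with _ | k
  · exact hk.trans (pow_zero 2)
  · exact absurd (hk ▸ dvd_pow_self 2 k.succ_ne_zero) (h.mem_odd.1 hv).2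

/-- The rotation inverts the odd core, which is thus commutative. -/
theorem rot_inverts : (∀ v ∈ oddCent Z, W * v * W⁻¹ = v⁻¹) ∧
    ∀ u ∈ oddCent Z, ∀ v ∈ oddCent Z, Commute u v := by
  let φ : oddCent Z →* oddCent Z :=
    { toFun := fun v => ⟨W * v * W⁻¹, h.conj_mem_odd h.commute_dz_rot.symm v.2⟩
      map_one' := Subtype.ext (by simp)
      map_mul' := fun a b => Subtype.ext (by simp [mul_assoc]) }
  have hfpf : MonoidHom.FixedPointFree φ := fun v hv => by
    have he : W * (v : G) * W⁻¹ = v := congrArg Subtype.val hv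
    have hc : (v : G) ∈ zpowers W := by
      rw [← h.cent_rot, mem_centralizer_singleton_iff]
      exact (mul_inv_eq_iff_eq_mul.1 he).symm
    exact Subtype.ext (h.eq_one_of_mem_sylow v.2 (zpowers_rot_le S D hc))
  have hinv : Function.Involutive φ := fun v => Subtype.ext (by
    show W * (W * (v : G) * W⁻¹) * W⁻¹ = v
    calc W * (W * (v : G) * W⁻¹) * W⁻¹ = (W * W) * v * (W * W)⁻¹ := by group
      _ = v := by rw [h.rot_sq, ← (h.mem_odd.1 v.2).1.eq, mul_inv_cancel_right])
  refine ⟨fun v hv => ?_, fun u hu v hv =>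
    congrArg Subtype.val (hfpf.commute_all_of_involutive hinv ⟨u, hu⟩ ⟨v, hv⟩).eq⟩
  exact congrArg Subtype.val (congrFun (hfpf.coe_eq_inv_of_involutive hinv) ⟨v, hv⟩)

theorem odd_comm {u v : G} (hu : u ∈ oddCent Z) (hv : v ∈ oddCent Z) : Commute u v :=
  h.rot_inverts.2 u hu v hv

theorem card_odd_odd : Odd (Nat.card (oddCent Z)) := by
  have : Fact (Nat.Prime 2) := ⟨Nat.prime_two⟩
  rw [← Nat.not_even_iff_odd, even_iff_two_dvd]
  intro hd
  obtain ⟨v, hv⟩ := exists_prime_orderOf_dvd_card' (G := oddCent Z) 2 hd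
  exact (h.mem_odd.1 v.2).2 (by rw [Subgroup.orderOf_coe, hv])

theorem refl_commute_dz : Commute T Z := (dz_commute S D (SetLike.coe_mem _)).symm

theorem rot_refl_commute_dz : Commute (W * T) Z :=
  h.commute_dz_rot.symm.mul_left h.refl_commute_dz

theorem mem_fix {v : G} : v ∈ fixPart S D ↔ v ∈ oddCent Z ∧ Commute v T := by
  rw [fixPart, mem_inf, mem_centralizer_singleton_iff]
  exact Iff.rfl

theorem mem_fix' {v : G} : v ∈ fixPart' S D ↔ v ∈ oddCent Z ∧ T * v * T⁻¹ = v⁻¹ := by
  rw [fixPart', mem_inf, mem_centralizer_singleton_iff]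
  refine and_congr_right fun hv => ?_
  have hc : T * v * T⁻¹ ∈ oddCent Z := h.conj_mem_odd h.refl_commute_dz hv
  have key : W * T * v * (W * T)⁻¹ = (T * v * T⁻¹)⁻¹ := by
    rw [← h.rot_inverts.1 _ hc]; group
  constructor
  · intro e
    rw [← e, mul_inv_cancel_right] at key
    exact (inv_inv _).symm.trans (congrArg (·⁻¹) key.symm)
  · intro e
    rw [e, inv_inv, mul_inv_eq_iff_eq_mul] at key
    exact key.symm

theorem fix_inf {v : G} (h1 : v ∈ fixPart S D) (h2 : v ∈ fixPart' S D) : v = 1 := by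
  obtain ⟨hv, hc⟩ := h.mem_fix.1 h1
  refine h.eq_one_of_sq hv ?_
  have := (h.mem_fix'.1 h2).2
  rw [← hc.eq, mul_inv_cancel_right] at this
  conv_lhs => arg 1; rw [this]
  rw [inv_mul_cancel]

/-- The odd core is the product of the two fixed parts. -/
theorem odd_decomp {v : G} (hv : v ∈ oddCent Z) :
    ∃ a ∈ fixPart S D, ∃ b ∈ fixPart' S D, v = a * b := by
  obtain ⟨m, hm⟩ := Nat.not_even_iff_odd.1 fun e => (h.mem_odd.1 hv).2 (even_iff_two_dvd.1 e)
  set r := v ^ (m + 1) with hr
  have hrr : r * r = v := by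
    rw [hr, ← pow_add, show m + 1 + (m + 1) = (2 * m + 1) + 1 by ring, pow_succ, ← hm,
      pow_orderOf_eq_one, one_mul]
  have hrO : r ∈ oddCent Z := pow_mem hv _
  set s := T * r * T⁻¹ with hs
  have hsO : s ∈ oddCent Z := h.conj_mem_odd h.refl_commute_dz hrO
  have hc := h.odd_comm hrO hsO
  have hTT : T * s * T⁻¹ = r := by
    rw [hs]
    calc T * (T * r * T⁻¹) * T⁻¹ = (T * T) * r * (T * T)⁻¹ := by group
      _ = r := by rw [invol_mul_self refl_invol]; simp
  refine ⟨r * s, h.mem_fix.2 ⟨mul_mem hrO hsO, ?_⟩, r * s⁻¹,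
    h.mem_fix'.2 ⟨mul_mem hrO (inv_mem hsO), ?_⟩, ?_⟩
  · refine (mul_inv_eq_iff_eq_mul.1 ?_).symm
    rw [conj_mul.symm, ← hs, hTT, hc.eq]
  · rw [conj_mul.symm, ← hs, conj_inv.symm, hTT, mul_inv_rev, inv_inv]
  · rw [mul_assoc, ← mul_assoc s r, ← hc.eq, mul_assoc, mul_inv_cancel, mul_one, hrr]

theorem card_odd : Nat.card (oddCent Z) = Nat.card (fixPart S D) * Nat.card (fixPart' S D) := by
  rw [← Nat.card_prod]
  symm
  refine Nat.card_eq_of_bijective
    (fun p : fixPart S D × fixPart' S D => (⟨(p.1 : G) * p.2, mul_mem (h.mem_fix.1 p.1.2).1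
      (h.mem_fix'.1 p.2.2).1⟩ : oddCent Z)) ⟨?_, ?_⟩
  · rintro ⟨⟨a, ha⟩, ⟨b, hb⟩⟩ ⟨⟨a', ha'⟩, ⟨b', hb'⟩⟩ he
    have he' : a * b = a' * b' := congrArg Subtype.val he
    have e : a'⁻¹ * a = b' * b⁻¹ := by
      rw [eq_mul_inv_iff_mul_eq, mul_assoc, he', inv_mul_cancel_left]
    have h1 := h.fix_inf (mul_mem (inv_mem ha') ha) (e ▸ mul_mem hb' (inv_mem hb))
    obtain rfl : a' = a := inv_mul_eq_one.1 h1
    obtain rfl : b = b' := mul_left_cancel he'
    rfl
  · rintro ⟨v, hv⟩
    obtain ⟨a, ha, b, hb, rfl⟩ := h.odd_decomp hv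
    exact ⟨⟨⟨a, ha⟩, ⟨b, hb⟩⟩, rfl⟩

/-- The centralizer of the central involution is the product of its odd core and the Sylow
subgroup. -/
theorem cent_decomp {x : G} (hx : Commute x Z) :
    ∃ v ∈ oddCent Z, ∃ s ∈ (S : Subgroup G), x = v * s := by
  obtain ⟨π, hid, hker⟩ := exists_retraction S D
  set X : centralizer ({Z} : Set G) := ⟨x, mem_centralizer_singleton_iff.2 hx.eq⟩
  set P : centralizer ({Z} : Set G) := ⟨(π X : G), sylow_le_centralizer_dz S D (π X).2⟩
  refine ⟨x * (π X : G)⁻¹, h.mem_odd.2 ⟨?_, (hker (X * P⁻¹)).1 ?_⟩, _, (π X).2,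
    (inv_mul_cancel_right _ _).symm⟩
  · exact hx.mul_left (dz_commute S D (π X).2).symm.inv_left
  · rw [map_mul, map_inv, hid P (π X).2]
    exact mul_inv_cancel _

theorem card_centralizer_dz :
    Nat.card ↥(centralizer ({Z} : Set G)) =
      8 * (Nat.card (fixPart S D) * Nat.card (fixPart' S D)) := by
  have hS : Nat.card (S : Subgroup G) = 8 := by rw [D.card_eq, h.h_two]
  rw [← h.card_odd, ← hS, mul_comm, ← Nat.card_prod]
  symm
  refine Nat.card_eq_of_bijective (fun p : oddCent Z × (S : Subgroup G) =>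
    (⟨(p.1 : G) * p.2, mem_centralizer_singleton_iff.2
      ((h.mem_odd.1 p.1.2).1.mul_left (dz_commute S D p.2.2).symm).eq⟩ :
        centralizer ({Z} : Set G))) ⟨?_, ?_⟩
  · rintro ⟨⟨a, ha⟩, ⟨b, hb⟩⟩ ⟨⟨a', ha'⟩, ⟨b', hb'⟩⟩ he
    have he' : a * b = a' * b' := congrArg Subtype.val he
    have e : a'⁻¹ * a = b' * b⁻¹ := by
      rw [eq_mul_inv_iff_mul_eq, mul_assoc, he', inv_mul_cancel_left]
    have h1 := h.eq_one_of_mem_sylow (mul_mem (inv_mem ha') ha) (e ▸ mul_mem hb' (inv_mem hb))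
    obtain rfl : a' = a := inv_mul_eq_one.1 h1
    obtain rfl : b = b' := mul_left_cancel he'
    rfl
  · rintro ⟨x, hx⟩
    obtain ⟨v, hv, s, hs, rfl⟩ := h.cent_decomp (mem_centralizer_singleton_iff.1 hx)
    exact ⟨⟨⟨v, hv⟩, ⟨s, hs⟩⟩, rfl⟩

/-- The Sylow elements commuting with the reflection. -/
theorem sylow_commute_refl {s : G} (hs : s ∈ (S : Subgroup G)) (hc : Commute s T) :
    s = 1 ∨ s = Z ∨ s = T ∨ s = Z * T := by
  have hW : ¬ Commute W T := fun e => by
    have h1 := refl_conj S D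
    rw [← e.eq, mul_inv_cancel_right] at h1
    have h2 : W ^ 2 = 1 := by rw [pow_two]; conv_lhs => arg 2; rw [h1]
                              rw [mul_inv_cancel]
    rw [pow_two, h.rot_sq] at h2
    exact invol_ne_one dz_invol h2
  have hT := h.refl_commute_dz
  rcases h.sylow_cases hs with e | e | e | e | e | e | e | e <;> subst e
  · exact Or.inl rfl
  · exact absurd hc hW
  · exact Or.inr (Or.inl rfl)
  · exact absurd (by simpa using hc.mul_left hT.symm.inv_left) hW
  · exact Or.inr (Or.inr (Or.inl rfl))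
  · exact absurd (by simpa using hc.mul_left (Commute.refl T).inv_left) hW
  · exact Or.inr (Or.inr (Or.inr rfl))
  · exact absurd (by
      simpa using (hc.mul_left (Commute.refl T).inv_left).mul_left hT.symm.inv_left) hW

theorem card_centralizer_refl :
    Nat.card ↥(centralizer ({Z, T} : Set G)) = 4 * Nat.card (fixPart S D) := by
  have hmem : ∀ {x : G}, x ∈ centralizer ({Z, T} : Set G) ↔ Commute x Z ∧ Commute x T := by
    intro x
    simp [mem_centralizer_iff, commute_iff_eq, eq_comm]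
  have hT := h.refl_commute_dz
  let g : Bool × Bool → G := fun p => cond p.1 Z 1 * cond p.2 T 1
  have hgS : ∀ p, g p ∈ (S : Subgroup G) := fun p =>
    mul_mem (by cases p.1; exacts [one_mem _, SetLike.coe_mem _])
      (by cases p.2; exacts [one_mem _, SetLike.coe_mem _])
  have hne : T ≠ Z := fun e => D.ne_zpow 0 D.h (Subtype.ext (dt_zero.trans e))
  have hg : Function.Injective g := by
    have h1 : Z ≠ 1 := invol_ne_one dz_invol
    have h2 : T ≠ 1 := invol_ne_one refl_invol
    have h3 : Z * T ≠ 1 := fun e => hne (by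
      rw [eq_inv_of_mul_eq_one_right e, invol_inv dz_invol])
    rintro ⟨a, b⟩ ⟨a', b'⟩ he
    cases a <;> cases b <;> cases a' <;> cases b' <;> simp_all [g, eq_comm]
  rw [mul_comm, show (4 : ℕ) = Nat.card (Bool × Bool) by simp [Nat.card_eq_fintype_card],
    ← Nat.card_prod]
  symm
  refine Nat.card_eq_of_bijective (fun p : fixPart S D × (Bool × Bool) =>
    (⟨(p.1 : G) * g p.2, hmem.2 ⟨(h.mem_odd.1 (h.mem_fix.1 p.1.2).1).1.mul_left
      (dz_commute S D (hgS _)).symm, (h.mem_fix.1 p.1.2).2.mul_left ?_⟩⟩ :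
        centralizer ({Z, T} : Set G))) ⟨?_, ?_⟩
  · exact Commute.mul_left (by cases p.2.1; exacts [Commute.one_left T, hT.symm])
      (by cases p.2.2; exacts [Commute.one_left T, Commute.refl T])
  · rintro ⟨⟨a, ha⟩, q⟩ ⟨⟨a', ha'⟩, q'⟩ he
    have he' : a * g q = a' * g q' := congrArg Subtype.val he
    have e : a'⁻¹ * a = g q' * (g q)⁻¹ := by
      rw [eq_mul_inv_iff_mul_eq, mul_assoc, he', inv_mul_cancel_left]
    have h1 := h.eq_one_of_mem_sylow
      (mul_mem (inv_mem (h.mem_fix.1 ha').1) (h.mem_fix.1 ha).1)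
      (e ▸ mul_mem (hgS _) (inv_mem (hgS _)))
    obtain rfl : a' = a := inv_mul_eq_one.1 h1
    obtain rfl : q = q' := hg (mul_left_cancel he')
    rfl
  · rintro ⟨x, hx⟩
    obtain ⟨hxZ, hxT⟩ := hmem.1 hx
    obtain ⟨π, hid, hker⟩ := exists_retraction S D
    obtain ⟨v, hv, s, hs, rfl⟩ := h.cent_decomp hxZ
    set X : centralizer ({Z} : Set G) := ⟨v * s, mem_centralizer_singleton_iff.2 hxZ.eq⟩
    set R : centralizer ({Z} : Set G) := ⟨T, mem_centralizer_singleton_iff.2 hT.eq⟩
    set V : centralizer ({Z} : Set G) := ⟨v, h.odd_le hv⟩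
    set U : centralizer ({Z} : Set G) := ⟨s, sylow_le_centralizer_dz S D hs⟩
    have hsT : Commute s T := by
      have hcomm := congrArg π (Subtype.ext hxT.eq : X * R = R * X)
      simp only [show X = V * U from rfl, map_mul, (hker V).2 (h.mem_odd.1 hv).2,
        one_mul, hid U hs, hid R (SetLike.coe_mem _)] at hcomm
      exact congrArg Subtype.val hcomm
    have hvT : Commute v T := by simpa using hxT.mul_left hsT.inv_left
    obtain ⟨q, hq⟩ : ∃ q, g q = s := by
      rcases h.sylow_commute_refl hs hsT with e | e | e | e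
      · exact ⟨(false, false), by simp [g, e]⟩
      · exact ⟨(true, false), by simp [g, e]⟩
      · exact ⟨(false, true), by simp [g, e]⟩
      · exact ⟨(true, true), by simp [g, e]⟩
    exact ⟨⟨⟨v, h.mem_fix.2 ⟨hv, hvT⟩⟩, q⟩, Subtype.ext (by simp [hq])⟩

/-- The data with the two reflections interchanged. -/
theorem exists_swap : ∃ D' : DihData (S : Subgroup G), Setup S D' ∧ rot S D' = W ∧
    refl S D' = W * T ∧ dz S D' = Z ∧ fixPart S D' = fixPart' S D ∧
    fixPart' S D' = fixPart S D := by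
  obtain ⟨D', hh, hr, hs⟩ := exists_data_of_elems S (h := 2) two_pos ⟨1, rfl⟩
    (by rw [D.card_eq, h.h_two]) (rot_mem S D) (τ := W * T)
    (mul_mem (rot_mem S D) (SetLike.coe_mem _)) h.orderOf_rot' rot_refl_invol
    (by
      calc W * T * W * (W * T)⁻¹ = W * (T * W * T⁻¹) * W⁻¹ := by group
        _ = W⁻¹ := by rw [refl_conj S D]; group)
    (fun e => D.s_notMem (by
      obtain ⟨i, hi⟩ := mem_zpowers_iff.1
        (by simpa using mul_mem (inv_mem (mem_zpowers W)) e : T ∈ zpowers W)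
      exact ⟨i, Subtype.ext (by simpa using hi)⟩))
  have hz : dz S D' = Z := by
    rw [← rot_pow_h S D', ← rot_pow_h S D, hh, h.h_two]
    show (D'.r : G) ^ 2 = _
    rw [hr]
  refine ⟨D', ⟨hh, by rw [show rot S D' = W from hr]; exact h.card_cent, h.hone⟩, hr, hs, hz,
    ?_, ?_⟩
  · rw [fixPart, fixPart', hz, show refl S D' = W * T from hs]
  · rw [fixPart', fixPart, hz, show refl S D' = W * T from hs, show rot S D' = W from hr]
    ext v
    simp only [mem_inf, mem_centralizer_singleton_iff]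
    refine and_congr_right fun hv => ?_
    have hvz : Commute v Z := (h.mem_odd.1 hv).1
    rw [← mul_assoc W, h.rot_sq]
    change Commute v (Z * T) ↔ Commute v T
    exact ⟨fun e => by simpa using hvz.inv_right.mul_right e, fun e => hvz.mul_right e⟩

theorem card_centralizer_rot_refl :
    Nat.card ↥(centralizer ({Z, W * T} : Set G)) = 4 * Nat.card (fixPart' S D) := by
  obtain ⟨D', h', -, hs, hz, he, -⟩ := h.exists_swap
  have := h'.card_centralizer_refl
  rwa [hz, hs, he] at this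

theorem odd_fix : Odd (Nat.card (fixPart S D)) ∧ Odd (Nat.card (fixPart' S D)) := by
  have := h.card_odd_odd
  rw [h.card_odd] at this
  exact Nat.odd_mul.1 this

end Setup

end CfsgLib.StructC.CentFour
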