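import Cfsg.Agent.Lib.Invol.MetacyclicTwo
import Cfsg.Agent.Lib.Invol.QWGroups
import Cfsg.Agent.Lib.Invol.BrauerSuzuki
import Cfsg.Agent.Lib.Invol.MetacyclicTwoNilpotent
import Cfsg.Agent.Lib.Invol.Simple
import Cfsg.Agent.Lib.Transfer.SimpleCount
import Cfsg.Agent.Lib.InvChar.KleinCentralizerFive
import Cfsg.Agent.Lib.Recog.SelfCentThree.Final
import Cfsg.Agent.Lib.BlockA.DihedralRotations

/-!
Simple groups with an element whose centralizer has order at most four: the reduction to a
dihedral Sylow 2-subgroup of order eight with a self-centralizing rotation of order four.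
-/

set_option autoImplicit false
set_option linter.unusedSectionVars false

namespace CfsgLib.StructC.CentFour

open Subgroup CfsgLib.Invol CfsgLib.BlockA.DihedralBlock

universe u

variable {G : Type u} [Group G] [Finite G]

theorem not_comm [IsSimpleGroup G] (hG : ¬ IsCyclic G) : ¬ IsMulCommutative G := by
  intro h
  let : CommGroup G := { ‹Group G› with mul_comm := h.is_comm.comm }
  exact hG inferInstance

theorem quaternion_sq {k : ℕ} (hk : k ≠ 0) {v : QuaternionGroup k} (hv : v * v = 1) (h1 : v ≠ 1) :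
    v = QuaternionGroup.a (k : ZMod (2 * k)) := by
  have : NeZero k := ⟨hk⟩
  rcases v with i | i
  · rw [QuaternionGroup.a_mul_a] at hv
    have h2 : i + i = 0 := QuaternionGroup.a.inj hv
    have h3 : i ≠ 0 := fun h => h1 (by rw [h]; rfl)
    obtain ⟨n, hn⟩ : ∃ n, i.val = n := ⟨_, rfl⟩
    have hlt : n < 2 * k := hn ▸ ZMod.val_lt i
    have hi : i = (n : ZMod (2 * k)) := by rw [← hn, ZMod.natCast_zmod_val]
    subst hi
    rw [← Nat.cast_add, ZMod.natCast_eq_zero_iff] at h2
    have hn0 : n ≠ 0 := fun h => h3 (by rw [h, Nat.cast_zero])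
    obtain ⟨c, hc⟩ := h2
    rcases c with _ | _ | c
    · omega
    · have : n = k := by omega
      rw [this]
    · exfalso; nlinarith
  · rw [QuaternionGroup.xa_mul_xa] at hv
    have h2 : (k : ZMod (2 * k)) = 0 := by simpa using QuaternionGroup.a.inj hv
    rw [ZMod.natCast_eq_zero_iff] at h2
    obtain ⟨c, hc⟩ := h2
    rcases c with _ | c
    · exact absurd hc hk
    · exfalso; nlinarith [Nat.pos_of_ne_zero hk]

/-- A simple group has no quaternion Sylow 2-subgroup (Brauer–Suzuki). -/
theorem not_quaternion [IsSimpleGroup G] (hna : ¬ IsMulCommutative G) (S : Sylow 2 G) {k : ℕ}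
    (e : (S : Subgroup G) ≃* QuaternionGroup k) : False := by
  have : Fact (Nat.Prime 2) := ⟨Nat.prime_two⟩
  have hk : k ≠ 0 := by
    rintro rfl
    have : Finite (QuaternionGroup 0) := Finite.of_equiv _ e.toEquiv
    have hinj : Function.Injective (QuaternionGroup.a : ZMod (2 * 0) → QuaternionGroup 0) :=
      fun a b h => QuaternionGroup.a.inj h
    have : Finite ℤ := Finite.of_injective _ hinj
    exact not_finite ℤ
  have : NeZero k := ⟨hk⟩
  have hcard : Nat.card (S : Subgroup G) = 4 * k := by
    rw [Nat.card_congr e.toEquiv, Nat.card_eq_fintype_card, QuaternionGroup.card]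
  obtain ⟨z, hz⟩ := exists_prime_orderOf_dvd_card' (G := (S : Subgroup G)) 2
    (by rw [hcard]; exact Dvd.dvd.mul_right (by norm_num) k)
  have hzo : orderOf (z : G) = 2 := by rw [Subgroup.orderOf_coe, hz]
  have huniq : ∀ a b : (S : Subgroup G), orderOf a = 2 → orderOf b = 2 → a = b := by
    intro a b ha hb
    have key : ∀ c : (S : Subgroup G), orderOf c = 2 → e c = QuaternionGroup.a (k : ZMod (2 * k)) :=
      fun c hc => quaternion_sq hk (by rw [← map_mul, invol_mul_self hc, map_one])
        (fun h => invol_ne_one hc (e.map_eq_one_iff.1 h))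
    exact e.injective ((key a ha).trans (key b hb).symm)
  have hiso : Cfsg.IsIsolatedInvolution (z : G) := isolated_of_sylow S hzo z.2 fun g hg =>
    congrArg Subtype.val (huniq ⟨_, hg⟩ z (by
      rw [← Subgroup.orderOf_coe]; show orderOf (g * (z : G) * g⁻¹) = 2
      rw [orderOf_conj_eq, hzo]) hz)
  rcases (inferInstance : (Cfsg.oddCore G).Normal).eq_bot_or_eq_top with h | h
  · have hzc : (z : G) ∈ center G := Subgroup.mem_center_iff.2 fun g => by
      have := zstar G hiso g
      rw [h, mem_bot, mul_inv_eq_one, mul_inv_eq_iff_eq_mul] at this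
      exact this.symm
    rw [center_eq_bot_of_simple hna, mem_bot] at hzc
    exact invol_ne_one hzo hzc
  · have hc := CfsgLib.Solvable.pPrimeCore_coprime (G := G) 2
    rw [show Cfsg.pPrimeCore 2 G = ⊤ from h, Subgroup.card_top] at hc
    have h2 : 2 ∣ Nat.card G := hzo ▸ orderOf_dvd_natCard _
    exact absurd h2 (Nat.prime_two.coprime_iff_not_dvd.1 hc.symm)

/-- A self-centralizing element of order three. -/
theorem case_three [IsSimpleGroup G] (hG : ¬ IsCyclic G) (w : G)
    (hw : Nat.card ↥(centralizer ({w} : Set G)) = 3) :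
    Nonempty (G ≃* ↥(alternatingGroup (Fin 5))) ∨
      (∃ (F : Type) (_ : Field F) (_ : Fintype F), Fintype.card F = 7 ∧
        Nonempty (G ≃* Matrix.ProjectiveSpecialLinearGroup (Fin 2) F)) := by
  have : Fact (Nat.Prime 3) := ⟨Nat.prime_three⟩
  have : Fact (Nat.Prime 7) := ⟨by norm_num⟩
  set C := centralizer ({w} : Set G) with hC
  have : IsCyclic C := isCyclic_of_prime_card hw
  have hself : centralizer (C : Set G) = C := by
    refine le_antisymm (fun g hg => mem_centralizer_singleton_iff.2
      ((mem_centralizer_iff.1 hg) w (mem_centralizer_singleton_iff.2 rfl)).symm) ?_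
    intro a ha b hb
    have := IsCyclic.isMulCommutative (α := C)
    exact congrArg Subtype.val (this.is_comm.comm ⟨b, hb⟩ ⟨a, ha⟩)
  have hna := not_comm hG
  have hq : ∀ (N : Subgroup G) [N.Normal], N = ⊤ → Nat.card (G ⧸ N) = 1 := fun N _ h => by
    rw [← index_eq_card, h, index_top]
  rcases CfsgLib.Recog.SelfCentThree.main C hw hself with
    ⟨N, hN, -, -, h⟩ | ⟨N, hN, -, -, ⟨e⟩⟩ | e
  · exfalso
    have := hN
    rcases hN.eq_bot_or_eq_top with rfl | rfl
    · have e : G ⧸ (⊥ : Subgroup G) ≃* G := QuotientGroup.quotientBot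
      rcases h with h | hf
      · exact hG (isCyclic_of_prime_card (p := 3) ((Nat.card_congr e.toEquiv).symm.trans h))
      · obtain ⟨f⟩ := hf
        have hs : IsSimpleGroup (Equiv.Perm (Fin 3)) := (e.symm.trans f).isSimpleGroup_congr.1 ‹_›
        refine index_ne_two_of_simple (G := Equiv.Perm (Fin 3)) ?_ (alternatingGroup (Fin 3))
          alternatingGroup.index_eq_two
        intro hh
        exact absurd (hh.is_comm.comm (Equiv.swap 0 1) (Equiv.swap 1 2)) (by decide)
    · rcases h with h | hf
      · rw [hq ⊤ rfl] at h; omega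
      · obtain ⟨f⟩ := hf
        have := Nat.card_congr f.toEquiv
        rw [hq ⊤ rfl, Nat.card_perm, Nat.card_fin] at this
        simp [Nat.factorial] at this
  · have := hN
    rcases hN.eq_bot_or_eq_top with rfl | rfl
    · exact Or.inl ⟨(QuotientGroup.quotientBot (G := G)).symm.trans e⟩
    · have := Nat.card_congr e.toEquiv
      rw [hq ⊤ rfl, nat_card_alternatingGroup, Nat.card_fin] at this
      simp [Nat.factorial] at this
  · exact Or.inr ⟨ZMod 7, ZMod.instField 7, inferInstance, ZMod.card 7, e⟩

/-- The reduction. -/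
theorem reduce [IsSimpleGroup G] (hG : ¬ IsCyclic G) (w : G)
    (hw : Nat.card ↥(centralizer ({w} : Set G)) ≤ 4) :
    (Nonempty (G ≃* ↥(alternatingGroup (Fin 5))) ∨
      (∃ (F : Type) (_ : Field F) (_ : Fintype F), Fintype.card F = 7 ∧
        Nonempty (G ≃* Matrix.ProjectiveSpecialLinearGroup (Fin 2) F))) ∨
    ∃ (S : Sylow 2 G) (D : DihData (S : Subgroup G)),
      D.h = 2 ∧ rot S D = w ∧ Nat.card ↥(centralizer ({w} : Set G)) = 4 := by
  classical
  have : Fact (Nat.Prime 2) := ⟨Nat.prime_two⟩
  have hna := not_comm hG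
  set C := centralizer ({w} : Set G) with hC
  have hwC : w ∈ C := mem_centralizer_singleton_iff.2 rfl
  have hw1 : w ≠ 1 := by
    intro h
    have hCtop : C = ⊤ := by
      refine eq_top_iff.2 fun g _ => mem_centralizer_singleton_iff.2 ?_
      rw [h, mul_one, one_mul]
    rw [hCtop, card_top] at hw
    have hpos : 0 < Nat.card G := Nat.card_pos
    rcases (show Nat.card G = 1 ∨ Nat.card G = 2 ∨ Nat.card G = 3 ∨ Nat.card G = 4 by omega)
      with h1 | h1 | h1 | h1
    · have := (Nat.card_eq_one_iff_unique.1 h1).1; exact hG inferInstance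
    · exact hG (isCyclic_of_prime_card (p := 2) h1)
    · have : Fact (Nat.Prime 3) := ⟨Nat.prime_three⟩
      exact hG (isCyclic_of_prime_card (p := 3) h1)
    · exact hna (IsPGroup.isMulCommutative_of_card_eq_prime_sq (p := 2) (by rw [h1]; rfl))
  have hdvd : orderOf w ∣ Nat.card C := by
    rw [← Subgroup.orderOf_mk w hwC]; exact orderOf_dvd_natCard _
  have ho1 : orderOf w ≠ 1 := fun h => hw1 (orderOf_eq_one_iff.1 h)
  rcases (show Nat.card C = 1 ∨ Nat.card C = 2 ∨ Nat.card C = 3 ∨ Nat.card C = 4 by
    have : 0 < Nat.card C := Nat.card_pos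
    omega) with h1 | h1 | h1 | h1
  · rw [h1, Nat.dvd_one] at hdvd
    exact absurd hdvd ho1
  · exfalso
    obtain ⟨S, hCS⟩ := (IsPGroup.of_card (n := 1) (by rw [h1, pow_one]) : IsPGroup 2 C).exists_le_sylow
    have hne : Nontrivial (S : Subgroup G) :=
      ⟨⟨⟨w, hCS hwC⟩, 1, fun h => hw1 (congrArg Subtype.val h)⟩⟩
    have := S.2.center_nontrivial
    obtain ⟨c, hc⟩ := exists_ne (1 : center (S : Subgroup G))
    have hcw : ((c : (S : Subgroup G)) : G) ∈ C := mem_centralizer_singleton_iff.2
      (congrArg Subtype.val (Subgroup.mem_center_iff.1 c.2 ⟨w, hCS hwC⟩)).symm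
    have hcw' : ((c : (S : Subgroup G)) : G) = w := by
      have : IsCyclic C := isCyclic_of_prime_card (p := 2) h1
      obtain ⟨g, hg1, hg2⟩ := Nat.card_eq_two_iff' (1 : C) |>.1 h1
      have e1 : (⟨_, hcw⟩ : C) = g := hg2 _ fun h => hc (by
        apply Subtype.ext; apply Subtype.ext
        have h' := congrArg (Subtype.val : C → G) h
        simpa using h')
      have e2 : (⟨w, hwC⟩ : C) = g := hg2 _ fun h => hw1 (congrArg Subtype.val h)
      exact congrArg Subtype.val (e1.trans e2.symm)
    have hSC : (S : Subgroup G) ≤ C := fun s hs => mem_centralizer_singleton_iff.2 (by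
      rw [← hcw']
      exact congrArg Subtype.val (Subgroup.mem_center_iff.1 c.2 ⟨s, hs⟩))
    have hS2 : Nat.card (S : Subgroup G) = 2 := by rw [le_antisymm hSC hCS, h1]
    refine CfsgLib.Transfer.not_hasNormalPComplement_of_simple hna ?_
      (MetacyclicTwo.complement_of_cyclic S (isCyclic_of_prime_card hS2))
    exact hS2 ▸ card_subgroup_dvd_card _
  · exact Or.inl (case_three hG w h1)
  -- the order four
  obtain ⟨S, hCS⟩ := (IsPGroup.of_card (n := 2) (by rw [h1]; rfl) : IsPGroup 2 C).exists_le_sylow
  have hwS : w ∈ (S : Subgroup G) := hCS hwC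
  obtain ⟨n, hn⟩ := IsPGroup.iff_card.1 S.2
  have hn2 : 2 ≤ n := by
    have := card_dvd_of_le hCS
    rw [h1, hn, show (4 : ℕ) = 2 ^ 2 from rfl, Nat.pow_dvd_pow_iff_le_right one_lt_two] at this
    exact this
  have : IsMulCommutative C := IsPGroup.isMulCommutative_of_card_eq_prime_sq (p := 2) (by rw [h1]; rfl)
  have h2G : 2 ∣ Nat.card G :=
    (dvd_pow_self 2 (by omega : n ≠ 0)).trans (hn ▸ card_subgroup_dvd_card (S : Subgroup G))
  rcases hn2.eq_or_lt with hn' | hn'
  · -- Sylow of order four
    subst hn'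
    have hSC : (S : Subgroup G) = C := (eq_of_le_of_card_ge hCS (by rw [hn, h1]; norm_num)).symm
    by_cases hcyc : IsCyclic C
    · exfalso
      refine CfsgLib.Transfer.not_hasNormalPComplement_of_simple hna h2G
        (MetacyclicTwo.complement_of_cyclic S ?_)
      rw [hSC]; exact hcyc
    · have hK : IsKleinFour C := isKleinFour_of_sq h1 fun u hu => by
        by_contra hne
        apply hcyc
        refine isCyclic_of_orderOf_eq_card (⟨u, hu⟩ : C) ?_
        rw [h1]
        refine orderOf_eq_prime_pow (p := 2) (n := 1) ?_ ?_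
        · rw [pow_one, pow_two]; exact fun h => hne (congrArg Subtype.val h)
        · show (⟨u, hu⟩ : C) ^ 4 = 1
          rw [← h1]; exact pow_card_eq_one'
      have hwo : orderOf w = 2 := by
        refine orderOf_eq_prime ?_ hw1
        rw [pow_two]
        exact congrArg Subtype.val (IsKleinFour.mul_self (⟨w, hwC⟩ : C))
      have hrel : C.relIndex C = 1 := relIndex_self C
      exact Or.inl (Or.inl (CfsgLib.InvChar.klein_centralizer_altFive w hwo C le_rfl hK
        (by rw [← hC, hrel]; norm_num) (by rw [← hC, subgroupOf_self]; infer_instance)))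
  -- maximal class
  set C' : Subgroup (S : Subgroup G) := C.subgroupOf (S : Subgroup G) with hC'
  have hC'card : Nat.card C' = 2 ^ 2 := by
    rw [Nat.card_congr (subgroupOfEquivOfLe hCS).toEquiv, h1]; norm_num
  have hself : centralizer (C' : Set (S : Subgroup G)) = C' := by
    refine le_antisymm (fun s hs => ?_) ?_
    · rw [hC', mem_subgroupOf, mem_centralizer_singleton_iff]
      exact (congrArg Subtype.val ((mem_centralizer_iff.1 hs) ⟨w, hwS⟩ hwC)).symm
    · intro a ha b hb
      refine Subtype.ext ?_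
      have h' := congrArg (Subtype.val : C → G)
        (IsMulCommutative.is_comm.comm (⟨(b : G), hb⟩ : C) ⟨(a : G), ha⟩)
      simpa using h'
  have hclass := CfsgLib.Transfer.maxClass_of_self_centralizing (p := 2) hn C' hC'card hself
  have hS8 : 8 ≤ Nat.card (S : Subgroup G) := by
    rw [hn]; calc (8 : ℕ) = 2 ^ 3 := by norm_num
      _ ≤ 2 ^ n := Nat.pow_le_pow_right two_pos hn'
  have hno := index_ne_two_of_simple hna
  have big : ∀ v : G, IsConj w v → ∀ T : Subgroup G, T ≤ centralizer ({v} : Set G) →
      Nat.card T ≤ 4 := by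
    intro v hv T hT
    obtain ⟨g, rfl⟩ := isConj_iff.1 hv
    have hle : T.map (MulAut.conj g⁻¹).toMonoidHom ≤ C := by
      rintro _ ⟨t, ht, rfl⟩
      rw [hC, mem_centralizer_singleton_iff]
      have := mem_centralizer_singleton_iff.1 (hT ht)
      simp only [MulEquiv.coe_toMonoidHom, MulAut.conj_apply, inv_inv]
      calc g⁻¹ * t * g * w = g⁻¹ * (t * (g * w * g⁻¹)) * g := by group
        _ = g⁻¹ * (g * w * g⁻¹ * t) * g := by rw [this]
        _ = w * (g⁻¹ * t * g) := by group
    have := (Nat.card_congr (T.equivMapOfInjective _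
      (MulAut.conj g⁻¹).injective).toEquiv).trans_le (card_le_of_le hle)
    omega
  have hwo : orderOf w = 2 ∨ orderOf w = 4 := by
    rw [h1] at hdvd
    have := Nat.le_of_dvd (by norm_num) hdvd
    interval_cases h : orderOf w <;> simp_all
  rcases maxClass_two_types (by omega) hn hclass with ⟨k, ⟨e⟩⟩ | ⟨k, ⟨e⟩⟩ | hQ
  · right
    have hk : 2 ≤ k := by
      have hc := Nat.card_congr e.toEquiv
      rw [DihedralGroup.nat_card, hn] at hc
      have : 8 ≤ 2 * k := by rw [← hc, ← hn]; exact hS8
      omega
    obtain ⟨D⟩ := exists_dihData S.2 hk e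
    have hh4 : 8 ≤ 4 * D.h := D.card_eq ▸ hS8
    have hone := one_class_of_no_index_two S D hno
    have hzo : orderOf (dz S D) = 2 := (Subgroup.orderOf_coe _).trans D.orderOf_z
    have hwo4 : orderOf w = 4 := by
      refine hwo.resolve_left fun h => ?_
      have := big _ (hone w _ h hzo) _ (sylow_le_centralizer_dz S D)
      omega
    rcases D.cases ⟨w, hwS⟩ with ⟨i, hi⟩ | ⟨i, hi⟩
    · have hwR : w ∈ zpowers (rot S D) := ⟨i, by
        have := congrArg Subtype.val hi; simpa using this.symm⟩
      have hle : zpowers (rot S D) ≤ C := by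
        intro v hv
        obtain ⟨a, rfl⟩ := mem_zpowers_iff.1 hv
        obtain ⟨b, rfl⟩ := mem_zpowers_iff.1 hwR
        exact mem_centralizer_singleton_iff.2 ((Commute.refl _).zpow_zpow a b).eq
      have hh2 : D.h = 2 := by
        have := card_le_of_le hle
        rw [card_zpowers_rot, h1] at this
        omega
      obtain ⟨D', hD', hr, -⟩ := exists_data_of_elems S (h := 2) two_pos ⟨1, rfl⟩
        (by rw [D.card_eq, hh2]) hwS (SetLike.coe_mem D.s) hwo4
        (by rw [Subgroup.orderOf_coe, D.orderOf_s])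
        (show refl S D * w * (refl S D)⁻¹ = w⁻¹ by
          obtain ⟨b, hb⟩ := mem_zpowers_iff.1 hwR
          rw [← hb, ← MulAut.conj_apply, map_zpow, MulAut.conj_apply, refl_conj, inv_zpow])
        (fun h => D.s_notMem (by
          have h' : refl S D ∈ zpowers (rot S D) := zpowers_le.2 hwR h
          obtain ⟨b, hb⟩ := mem_zpowers_iff.1 h'
          exact ⟨b, Subtype.ext (by simpa using hb)⟩))
      exact ⟨S, D', hD', hr, h1⟩
    · exfalso
      have : orderOf (⟨w, hwS⟩ : (S : Subgroup G)) = 2 := hi ▸ D.orderOf_zy i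
      rw [Subgroup.orderOf_mk] at this
      omega
  · exact absurd (not_quaternion hna S e) id
  · exfalso
    obtain ⟨D, m, -, hm, -⟩ := exists_qdData hQ
    obtain ⟨hzy, hab⟩ := qd_fuse S D hm hno
    rcases hwo with h | h
    · have hz : IsConj w (qz S D) := (qd_invol_cases S D (s := ⟨w, hwS⟩) h).elim id
        fun e => e.trans hzy.symm
      have := big _ hz (S : Subgroup G) fun s hs => mem_centralizer_singleton_iff.2
        (congrArg Subtype.val (D.commute_z ⟨s, hs⟩).eq).symm
      omega
    · have ha : IsConj w (qa S D) := (qd_four_cases S D (s := ⟨w, hwS⟩) h).elim id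
        fun e => e.trans hab.symm
      have hle : (zpowers D.x).map (S : Subgroup G).subtype ≤ centralizer ({qa S D} : Set G) := by
        rintro _ ⟨v, hv, rfl⟩
        obtain ⟨a, rfl⟩ := mem_zpowers_iff.1 hv
        exact mem_centralizer_singleton_iff.2
          (congrArg Subtype.val ((Commute.refl D.x).zpow_zpow a (D.m : ℤ)).eq)
      have := big _ ha _ hle
      rw [← Nat.card_congr (Subgroup.equivMapOfInjective _ _
        (Subgroup.subtype_injective _)).toEquiv] at this
      rw [Nat.card_zpowers, D.orderOf_x] at this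
      have := D.two_le
      omega

end CfsgLib.StructC.CentFour
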